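import Mathlib.Topology.Spectral.Prespectral
import Mathlib.Topology.QuasiSeparated
import Mathlib.Topology.Connected.Clopen
import Mathlib.Topology.Constructible

/-!
Connected components of quasi-compact spaces with a good basis of quasi-compact opens.
-/

open Set TopologicalSpace Topology

namespace Groth.SitesTopoi

universe u
variable {X : Type u} [TopologicalSpace X]

lemma exists_isClopen_subset_of_sInter_subset [CompactSpace X] {x : X} {O : Set X}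
    (K : Set X) (hK : IsCompact K) (hKO : K ∩ ⋂₀ {Z : Set X | IsClopen Z ∧ x ∈ Z} ⊆ O)
    (hO : IsOpen O) : ∃ Z : Set X, IsClopen Z ∧ x ∈ Z ∧ K ∩ Z ⊆ O := by
  classical
  have hdir : (⋂₀ {Z : Set X | IsClopen Z ∧ x ∈ Z}) =
      ⋂ Z : {Z : Set X // IsClopen Z ∧ x ∈ Z}, (Z : Set X) := by
    rw [sInter_eq_iInter]; rfl
  rw [hdir] at hKO
  obtain ⟨s, hs⟩ := hK.elim_finite_subfamily_closed
    (fun Z : {Z : Set X // IsClopen Z ∧ x ∈ Z} => (Z : Set X) ∩ Oᶜ)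
    (fun Z => Z.2.1.1.inter hO.isClosed_compl)
    (by
      rw [eq_empty_iff_forall_notMem]
      rintro y ⟨hy1, hy2⟩
      have : Nonempty {Z : Set X // IsClopen Z ∧ x ∈ Z} := ⟨⟨univ, isClopen_univ, trivial⟩⟩
      simp only [mem_iInter, mem_inter_iff] at hy2
      exact (hy2 this.some).2 (hKO ⟨hy1, mem_iInter.2 fun Z => (hy2 Z).1⟩))
  refine ⟨⋂ Z ∈ s, (Z : Set X), isClopen_biInter_finset fun Z _ => Z.2.1,
    mem_iInter₂.2 fun Z _ => Z.2.2, ?_⟩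
  rintro y ⟨hyK, hy⟩
  by_contra hne
  refine eq_empty_iff_forall_notMem.1 hs y ⟨hyK, mem_iInter₂.2 fun Z hZ => ⟨mem_iInter₂.1 hy Z hZ, hne⟩⟩

theorem connectedComponent_eq_sInter [CompactSpace X] [PrespectralSpace X] [QuasiSeparatedSpace X]
    (x : X) : connectedComponent x = ⋂₀ {Z : Set X | IsClopen Z ∧ x ∈ Z} := by
  refine Subset.antisymm (subset_sInter fun Z hZ => hZ.1.connectedComponent_subset hZ.2) ?_
  set S := ⋂₀ {Z : Set X | IsClopen Z ∧ x ∈ Z} with hSdef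
  have hSc : IsClosed S := isClosed_sInter fun Z hZ => hZ.1.1
  have hxS : x ∈ S := fun Z hZ => hZ.2
  refine IsPreconnected.subset_connectedComponent ?_ hxS
  rw [isPreconnected_iff_subset_of_disjoint_closed]
  intro B C hB hC hSBC hd
  -- separate `S ∩ B` from `S ∩ C` by compact opens
  have key : ∀ B C : Set X, IsClosed B → IsClosed C → S ∩ (B ∩ C) = ∅ →
      ∃ U : Set X, IsOpen U ∧ IsCompact U ∧ S ∩ B ⊆ U ∧ U ∩ (S ∩ C) = ∅ := by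
    intro B C hB hC hd
    obtain ⟨t, ht, ht'⟩ := (hSc.inter hB).isCompact.elim_finite_subcover_image
      (b := {U : Set X | IsOpen U ∧ IsCompact U ∧ U ∩ (S ∩ C) = ∅}) (c := id) (fun U hU => hU.1)
      (by
        intro y hy
        obtain ⟨U, ⟨hU, hU'⟩, hyU, hUs⟩ := PrespectralSpace.isTopologicalBasis.exists_subset_of_mem_open
          (show y ∈ (S ∩ C)ᶜ from fun h => eq_empty_iff_forall_notMem.1 hd y ⟨hy.1, hy.2, h.2⟩)
          (hSc.inter hC).isOpen_compl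
        exact mem_iUnion₂.2 ⟨U, ⟨hU, hU', disjoint_iff_inter_eq_empty.1
          (subset_compl_iff_disjoint_right.1 hUs)⟩, hyU⟩)
    refine ⟨⋃ U ∈ t, U, isOpen_biUnion fun U hU => (ht hU).1,
      ht'.1.isCompact_biUnion fun U hU => (ht hU).2.1, ht'.2, ?_⟩
    simp only [iUnion_inter, iUnion_eq_empty]
    exact fun U hU => (ht hU).2.2
  obtain ⟨U, hUo, hUc, hBU, hUC⟩ := key B C hB hC hd
  obtain ⟨V, hVo, hVc, hCV, hVB⟩ := key C B hC hB (by rwa [inter_comm C B])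
  obtain ⟨Z₁, hZ₁, hxZ₁, hZ₁s⟩ := exists_isClopen_subset_of_sInter_subset (U ∩ V)
    (QuasiSeparatedSpace.inter_isCompact U V hUo hUc hVo hVc) (O := ∅)
    (by
      rintro y ⟨⟨hyU, hyV⟩, hyS⟩
      rcases hSBC hyS with h | h
      · exact eq_empty_iff_forall_notMem.1 hVB y ⟨hyV, hyS, h⟩
      · exact eq_empty_iff_forall_notMem.1 hUC y ⟨hyU, hyS, h⟩) isOpen_empty
  obtain ⟨Z₂, hZ₂, hxZ₂, hZ₂s⟩ := exists_isClopen_subset_of_sInter_subset (univ : Set X) isCompact_univ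
    (O := U ∪ V)
    (by
      rintro y ⟨-, hyS⟩
      rcases hSBC hyS with h | h
      · exact Or.inl (hBU ⟨hyS, h⟩)
      · exact Or.inr (hCV ⟨hyS, h⟩)) (hUo.union hVo)
  have hdisj : Disjoint (Z₁ ∩ Z₂ ∩ U) (Z₁ ∩ Z₂ ∩ V) :=
    Set.disjoint_left.2 fun y h1 h2 => hZ₁s ⟨⟨h1.2, h2.2⟩, h1.1.1⟩
  have hclop : ∀ {U V : Set X}, IsOpen U → IsOpen V → Z₁ ∩ Z₂ ⊆ U ∪ V →
      Disjoint (Z₁ ∩ Z₂ ∩ U) (Z₁ ∩ Z₂ ∩ V) → IsClopen (Z₁ ∩ Z₂ ∩ U) := by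
    intro U V hU hV hsub hdj
    refine ⟨?_, (hZ₁.2.inter hZ₂.2).inter hU⟩
    have : Z₁ ∩ Z₂ ∩ U = (Z₁ ∩ Z₂) ∩ (Z₁ ∩ Z₂ ∩ V)ᶜ := by
      ext y
      exact ⟨fun h => ⟨h.1, Set.disjoint_left.1 hdj h⟩,
        fun h => ⟨h.1, (hsub h.1).resolve_right fun hv => h.2 ⟨h.1, hv⟩⟩⟩
    rw [this]
    exact (hZ₁.1.inter hZ₂.1).inter ((hZ₁.2.inter hZ₂.2).inter hV).isClosed_compl
  have hsub : Z₁ ∩ Z₂ ⊆ U ∪ V := fun y hy => hZ₂s ⟨trivial, hy.2⟩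
  rcases hsub ⟨hxZ₁, hxZ₂⟩ with hx | hx
  · left
    intro y hy
    have : y ∈ Z₁ ∩ Z₂ ∩ U := hy _ ⟨hclop hUo hVo hsub hdisj, ⟨hxZ₁, hxZ₂⟩, hx⟩
    exact (hSBC hy).resolve_right fun h => eq_empty_iff_forall_notMem.1 hUC y ⟨this.2, hy, h⟩
  · right
    intro y hy
    have : y ∈ Z₁ ∩ Z₂ ∩ V :=
      hy _ ⟨hclop hVo hUo (by rwa [union_comm]) hdisj.symm, ⟨hxZ₁, hxZ₂⟩, hx⟩
    exact (hSBC hy).resolve_left fun h => eq_empty_iff_forall_notMem.1 hVB y ⟨this.2, hy, h⟩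

end Groth.SitesTopoi
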