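import Groth.Prelude.Def_W4stktopologysheavesDim

/-!
Saturated chains, codimension and catenary conditions in partial orders, and the application to
irreducible closed subsets.
-/

open TopologicalSpace Topology

namespace Groth.SitesTopoi

universe u v

section Poset

variable {P : Type u} [PartialOrder P] {Q : Type v} [PartialOrder Q]

/-- Supremum of the lengths of chains starting at `a` and ending below `b`. -/
noncomputable def chainCodim (a b : P) : ℕ∞ :=
  ⨆ (s : LTSeries P) (_ : s.head = a ∧ s.last ≤ b), (s.length : ℕ∞)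

/-- A chain all of whose steps are covering relations. -/
def IsSaturated (s : LTSeries P) : Prop :=
  ∀ i : Fin s.length, s (Fin.castSucc i) ⋖ s (Fin.succ i)

/-- The catenary condition at a pair. -/
def CatAt (a b : P) : Prop :=
  chainCodim a b ≠ ⊤ ∧ ∀ s : LTSeries P, s.head = a → s.last = b → IsSaturated s →
    (s.length : ℕ∞) = chainCodim a b

lemma length_le_chainCodim {a b : P} (s : LTSeries P) (h₁ : s.head = a) (h₂ : s.last ≤ b) :
    (s.length : ℕ∞) ≤ chainCodim a b :=
  le_iSup₂ (f := fun (s : LTSeries P) (_ : s.head = a ∧ s.last ≤ b) => (s.length : ℕ∞)) s ⟨h₁, h₂⟩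

lemma chainCodim_le {a b : P} {n : ℕ∞}
    (h : ∀ s : LTSeries P, s.head = a → s.last ≤ b → (s.length : ℕ∞) ≤ n) : chainCodim a b ≤ n :=
  iSup₂_le fun s hs => h s hs.1 hs.2

lemma chainCodim_self (a : P) : chainCodim a a = 0 := by
  refine le_antisymm (chainCodim_le fun s h₁ h₂ => ?_) bot_le
  rcases Nat.eq_zero_or_pos s.length with h | h
  · simp [h]
  · have hlt : s.head < s.last :=
      s.strictMono (show (0 : Fin (s.length + 1)) < Fin.last _ by simp [Fin.lt_def]; omega)
    rw [h₁] at hlt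
    exact absurd (h₂.trans_lt hlt) (lt_irrefl _)

lemma one_le_chainCodim {a b : P} (h : a < b) : 1 ≤ chainCodim a b := by
  simpa using length_le_chainCodim ((RelSeries.singleton _ b).cons a h) (b := b) (by simp) (by simp)

lemma chainCodim_mono {a b b' : P} (h : b ≤ b') : chainCodim a b ≤ chainCodim a b' :=
  chainCodim_le fun s h₁ h₂ => length_le_chainCodim s h₁ (h₂.trans h)

lemma chainCodim_eq_one {a b : P} (h : a ⋖ b) : chainCodim a b = 1 := by
  refine le_antisymm (chainCodim_le fun s h₁ h₂ => ?_) (one_le_chainCodim h.lt)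
  by_contra hne
  rw [not_le] at hne
  have hl : 2 ≤ s.length := by exact_mod_cast Order.add_one_le_of_lt hne
  have h01 : s.head < s ⟨1, by omega⟩ := s.strictMono (by simp [Fin.lt_def])
  have h1l : s ⟨1, by omega⟩ < s.last := s.strictMono (by simp [Fin.lt_def]; omega)
  exact h.2 (h₁ ▸ h01) (h1l.trans_le h₂)

lemma exists_saturated_chain {a b : P} (hab : a ≤ b) (hfin : chainCodim a b ≠ ⊤) :
    ∃ s : LTSeries P, s.head = a ∧ s.last = b ∧ IsSaturated s ∧ (s.length : ℕ∞) = chainCodim a b := by
  obtain ⟨n, hn⟩ := ENat.ne_top_iff_exists.1 hfin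
  obtain ⟨s, hs₁, hs₂, hsl⟩ : ∃ s : LTSeries P, s.head = a ∧ s.last ≤ b ∧ n ≤ s.length := by
    by_contra hc
    push Not at hc
    rcases Nat.eq_zero_or_pos n with rfl | hpos
    · exact absurd (hc (RelSeries.singleton _ a) rfl hab) (Nat.not_lt_zero _)
    · have : chainCodim a b ≤ ((n - 1 : ℕ) : ℕ∞) :=
        chainCodim_le fun s h₁ h₂ => by exact_mod_cast Nat.le_sub_one_of_lt (hc s h₁ h₂)
      rw [← hn, Nat.cast_le] at this
      omega
  have hslen : s.length = n :=
    le_antisymm (by exact_mod_cast (length_le_chainCodim s hs₁ hs₂).trans_eq hn.symm) hsl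
  have hlast : s.last = b := by
    by_contra hne
    have := length_le_chainCodim (s.snoc b (lt_of_le_of_ne hs₂ hne)) (b := b)
      (by simpa using hs₁) (by simp)
    rw [← hn, Nat.cast_le] at this
    simp only [RelSeries.snoc_length] at this
    omega
  refine ⟨s, hs₁, hlast, fun i => ⟨s.step i, fun c hc₁ hc₂ => ?_⟩, by rw [hslen, hn]⟩
  have := length_le_chainCodim (s.insertNth i c hc₁ hc₂) (a := a) (b := b)
    (by
      refine Eq.trans ?_ hs₁
      show Fin.insertNth (α := fun _ => P) i.succ.castSucc c s.toFun (0 : Fin (s.length + 2)) = _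
      rw [Fin.insertNth_apply_below (by simp [Fin.lt_def])]
      simp [RelSeries.head])
    (by
      refine le_trans (le_of_eq ?_) hs₂
      show Fin.insertNth (α := fun _ => P) i.succ.castSucc c s.toFun (Fin.last (s.length + 1)) = _
      rw [Fin.insertNth_apply_above (by simp [Fin.lt_def])]
      simp [RelSeries.last]
      exact congrArg s.toFun (Fin.ext (by simp)))
  rw [← hn, Nat.cast_le] at this
  simp only [RelSeries.insertNth] at this
  omega

lemma chainCodim_add_le {a b c : P} (hab : a ≤ b) (hbc : b ≤ c) :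
    chainCodim a b + chainCodim b c ≤ chainCodim a c := by
  by_cases hac : chainCodim a c = ⊤
  · rw [hac]; exact le_top
  have key : ∀ s t : LTSeries P, s.head = a → s.last ≤ b → t.head = b → t.last ≤ c →
      (s.length : ℕ∞) + t.length ≤ chainCodim a c := by
    intro s t hs₁ hs₂ ht₁ ht₂
    rcases hs₂.eq_or_lt with h | h
    · have := length_le_chainCodim (s.smash t (by rw [h, ht₁])) ((RelSeries.head_smash _).trans hs₁)
        ((RelSeries.last_smash _).le.trans ht₂)
      rw [RelSeries.smash_length] at this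
      exact_mod_cast this
    · have := length_le_chainCodim (s.append t (by rw [ht₁]; exact h)) ((RelSeries.head_append ..).trans hs₁)
        ((RelSeries.last_append ..).le.trans ht₂)
      rw [RelSeries.append_length] at this
      refine le_trans ?_ this
      exact_mod_cast Nat.le_succ _
  have hb : chainCodim a b ≠ ⊤ := fun h => hac (top_le_iff.1 (h ▸ chainCodim_mono hbc))
  obtain ⟨s, hs₁, hs₂, -, hsl⟩ := exists_saturated_chain hab hb
  rw [← hsl]
  by_cases hbc' : chainCodim b c = ⊤
  · exfalso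
    refine hac (top_le_iff.1 ?_)
    rw [← hbc']
    exact chainCodim_le fun t ht₁ ht₂ => le_trans le_add_self (key s t hs₁ hs₂.le ht₁ ht₂)
  obtain ⟨t, ht₁, ht₂, -, htl⟩ := exists_saturated_chain hbc hbc'
  rw [← htl]
  exact key s t hs₁ hs₂.le ht₁ ht₂.le

lemma isSaturated_cons {s : LTSeries P} {x : P} {hx : x < s.head} (h : IsSaturated (s.cons x hx)) :
    x ⋖ s.head ∧ IsSaturated s := by
  have key : ∀ j : Fin (s.length + 1), (s.cons x hx) ⟨j.1 + 1, by simp only [RelSeries.cons_length]; omega⟩ = s j := fun j => by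
    refine Eq.trans ?_ (RelSeries.cons_cast_succ s x hx j)
    congr 1
  refine ⟨?_, fun i => ?_⟩
  · have h0 := h ⟨0, by simp⟩
    have h2 : (s.cons x hx) (Fin.castSucc ⟨0, by simp⟩) = x := RelSeries.head_cons s x hx
    have h3 : (s.cons x hx) (Fin.succ ⟨0, by simp⟩) = s.head := key 0
    rwa [h2, h3] at h0
  · have h0 := h ⟨i.1 + 1, by simp⟩
    have h2 : (s.cons x hx) (Fin.castSucc ⟨i.1 + 1, by simp⟩) = s i.castSucc := key i.castSucc
    have h3 : (s.cons x hx) (Fin.succ ⟨i.1 + 1, by simp⟩) = s i.succ := key i.succ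
    rwa [h2, h3] at h0

lemma catenary_iff_additive :
    (∀ a b : P, a ≤ b → CatAt a b) ↔
      (∀ a b : P, a ≤ b → chainCodim a b ≠ ⊤) ∧
      ∀ a b c : P, a ≤ b → b ≤ c → chainCodim a c = chainCodim a b + chainCodim b c := by
  constructor
  · intro h
    refine ⟨fun a b hab => (h a b hab).1, fun a b c hab hbc => ?_⟩
    obtain ⟨s, hs₁, hs₂, hss, hsl⟩ := exists_saturated_chain hab (h a b hab).1
    obtain ⟨t, ht₁, ht₂, hts, htl⟩ := exists_saturated_chain hbc (h b c hbc).1
    have hst : s.last = t.head := by rw [hs₂, ht₁]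
    have := (h a c (hab.trans hbc)).2 (s.smash t hst) ((RelSeries.head_smash _).trans hs₁)
      ((RelSeries.last_smash _).trans ht₂) (fun i => ?_)
    · rw [← this, ← hsl, ← htl, RelSeries.smash_length]; push_cast; rfl
    · refine Fin.addCases (fun j => ?_) (fun j => ?_) i
      · exact (RelSeries.smash_castAdd hst j).symm ▸ (RelSeries.smash_succ_castAdd hst j).symm ▸ hss j
      · exact (RelSeries.smash_natAdd hst j).symm ▸ (RelSeries.smash_succ_natAdd hst j).symm ▸ hts j
  · rintro ⟨hfin, hadd⟩ a b hab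
    refine ⟨hfin a b hab, fun s => ?_⟩
    induction s using RelSeries.inductionOn generalizing a with
    | singleton x =>
      intro h₁ h₂ _
      rw [show a = x from h₁.symm.trans (by simp), show b = x from h₂.symm.trans (by simp), chainCodim_self]
      simp
    | cons s x hx ih =>
      intro h₁ h₂ hs
      have hxa : x = a := by rw [← h₁]; simp
      subst hxa
      have hlast : s.last = b := by rw [← h₂]; simp
      obtain ⟨hcov, hs'⟩ := isSaturated_cons hs
      have hle : s.head ≤ b := hlast ▸ LTSeries.head_le_last s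
      rw [hadd x s.head b hcov.le hle, chainCodim_eq_one hcov, ← ih s.head hle rfl hlast hs']
      rw [RelSeries.cons_length]; push_cast; exact add_comm _ _

lemma exists_chain_of_le_range (e : P ↪o Q) (he : (Set.range e).OrdConnected) (a b : P) (s : LTSeries Q)
    (h₁ : s.head = e a) (h₂ : s.last ≤ e b) :
    ∃ t : LTSeries P, t.map e e.strictMono = s := by
  have : ∀ i, ∃ p, e p = s i := fun i =>
    he.out ⟨a, rfl⟩ ⟨b, rfl⟩ ⟨h₁ ▸ LTSeries.head_le s i, (LTSeries.monotone s (Fin.le_last i)).trans h₂⟩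
  choose p hp using this
  refine ⟨⟨s.length, p, fun i => e.lt_iff_lt.1 (by rw [hp, hp]; exact s.step i)⟩, ?_⟩
  refine RelSeries.ext rfl (funext fun i => ?_)
  exact hp i

lemma catAt_map_iff (e : P ↪o Q) (he : (Set.range e).OrdConnected) (a b : P) :
    CatAt (e a) (e b) ↔ CatAt a b := by
  have hcd : chainCodim (e a) (e b) = chainCodim a b := by
    refine le_antisymm (chainCodim_le fun s h₁ h₂ => ?_) (chainCodim_le fun s h₁ h₂ => ?_)
    · obtain ⟨t, rfl⟩ := exists_chain_of_le_range e he a b s h₁ h₂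
      exact length_le_chainCodim t (e.injective h₁) (e.le_iff_le.1 h₂)
    · exact length_le_chainCodim (s.map e e.strictMono) (by simp [h₁]) (by simp [h₂])
  unfold CatAt
  rw [hcd]
  refine and_congr_right fun _ => ⟨fun h t h₁ h₂ ht => ?_, fun h s h₁ h₂ hs => ?_⟩
  · exact h (t.map e e.strictMono) (by simp [h₁]) (by simp [h₂])
      (fun i => (Set.OrdConnected.apply_covBy_apply_iff e he).2 (ht i))
  · obtain ⟨t, rfl⟩ := exists_chain_of_le_range e he a b s h₁ h₂.le
    exact h t (e.injective (by simpa using h₁)) (e.injective (by simpa using h₂))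
      (fun i => (Set.OrdConnected.apply_covBy_apply_iff e he).1 (hs i))

end Poset

variable {X : Type u} [TopologicalSpace X]

lemma codim_eq_chainCodim (Y Y' : IrreducibleCloseds X) :
    PtTop.codim Y (Y' : Set X) = chainCodim Y Y' := rfl

lemma isCatenarySpace_iff :
    PtTop.IsCatenarySpace X ↔ ∀ T T' : IrreducibleCloseds X, T ≤ T' → CatAt T T' := Iff.rfl

lemma isCatenarySpace_iff_additive :
    PtTop.IsCatenarySpace X ↔
      (∀ Y Y' : IrreducibleCloseds X, Y ≤ Y' → PtTop.codim Y (Y' : Set X) ≠ ⊤) ∧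
      (∀ Y Y' Y'' : IrreducibleCloseds X, Y ≤ Y' → Y' ≤ Y'' →
        PtTop.codim Y (Y'' : Set X) = PtTop.codim Y (Y' : Set X) + PtTop.codim Y' (Y'' : Set X)) :=
  catenary_iff_additive

/-- Irreducible closed subsets of a subspace, as irreducible closed subsets of the ambient space. -/
noncomputable def closureEmb (S : Set X) : IrreducibleCloseds S ↪o IrreducibleCloseds X :=
  OrderEmbedding.ofMapLEIff
    (fun Z => ⟨closure (Subtype.val '' (Z : Set S)),
      (Z.isIrreducible.image _ continuous_subtype_val.continuousOn).closure, isClosed_closure⟩)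
    fun Z W => by
      refine ⟨fun h => ?_, fun h => closure_mono (Set.image_mono h)⟩
      intro z hz
      have : z.1 ∈ closure (Subtype.val '' (W : Set S)) := h (subset_closure ⟨z, hz, rfl⟩)
      rwa [← closure_subtype, W.isClosed.closure_eq] at this

lemma closureEmb_apply (S : Set X) (Z : IrreducibleCloseds S) :
    ((closureEmb S Z : IrreducibleCloseds X) : Set X) = closure (Subtype.val '' (Z : Set S)) := rfl

lemma range_closureEmb {S : Set X} (hS : IsLocallyClosed S) :
    Set.range (closureEmb S) = {W : IrreducibleCloseds X | ((W : Set X) ∩ S).Nonempty ∧ closure ((W : Set X) ∩ S) = W} := by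
  ext W
  constructor
  · rintro ⟨Z, rfl⟩
    obtain ⟨z, hz⟩ := Z.isIrreducible.nonempty
    refine ⟨⟨z.1, subset_closure ⟨z, hz, rfl⟩, z.2⟩,
      subset_antisymm (closure_minimal Set.inter_subset_left (closureEmb S Z).isClosed) ?_⟩
    rw [closureEmb_apply]
    exact closure_mono fun y ⟨z, hz, e⟩ => e ▸ ⟨subset_closure ⟨z, hz, rfl⟩, z.2⟩
  · rintro ⟨hne, hcl⟩
    obtain ⟨U, C, hU, hC, rfl⟩ := hS
    have hWC : (W : Set X) ⊆ C := hcl ▸ closure_minimal (fun y hy => hy.2.2) hC
    have hirr : IsIrreducible ((W : Set X) ∩ (U ∩ C)) := by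
      rw [← isIrreducible_iff_closure, hcl]; exact W.isIrreducible
    refine ⟨⟨Subtype.val ⁻¹' (W : Set X), ⟨?_, ?_⟩, W.isClosed.preimage continuous_subtype_val⟩, ?_⟩
    · obtain ⟨y, hy, hy'⟩ := hne
      exact ⟨⟨y, hy'⟩, hy⟩
    · intro A B hA hB hAne hBne
      obtain ⟨A', hA', rfl⟩ := isOpen_induced_iff.1 hA
      obtain ⟨B', hB', rfl⟩ := isOpen_induced_iff.1 hB
      obtain ⟨a, ha, ha'⟩ := hAne
      obtain ⟨b, hb, hb'⟩ := hBne
      obtain ⟨y, ⟨hy, hyS⟩, hyAB⟩ :=
        hirr.2 A' B' hA' hB' ⟨a, ⟨ha, a.2⟩, ha'⟩ ⟨b, ⟨hb, b.2⟩, hb'⟩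
      exact ⟨⟨y, hyS⟩, hy, hyAB⟩
    · refine IrreducibleCloseds.ext ?_
      change closure (Subtype.val '' (Subtype.val ⁻¹' (W : Set X))) = W
      rw [Subtype.image_preimage_coe, Set.inter_comm]
      exact hcl

lemma ordConnected_range_closureEmb {S : Set X} (hS : IsLocallyClosed S) :
    (Set.range (closureEmb S)).OrdConnected := by
  rw [range_closureEmb hS]
  obtain ⟨U, C, hU, hC, rfl⟩ := hS
  constructor
  rintro W₁ ⟨⟨y, hy, hyU, hyC⟩, -⟩ W₂ ⟨-, hcl₂⟩ W ⟨h₁, h₂⟩
  have hWC : (W : Set X) ⊆ C :=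
    subset_trans (SetLike.coe_subset_coe.2 h₂) (hcl₂ ▸ closure_minimal (fun y hy => hy.2.2) hC)
  refine ⟨⟨y, h₁ hy, hyU, hyC⟩, subset_antisymm (closure_minimal Set.inter_subset_left W.isClosed) ?_⟩
  have : (W : Set X) ∩ (U ∩ C) = (W : Set X) ∩ U := by
    rw [← Set.inter_assoc, Set.inter_eq_left]; exact Set.inter_subset_left.trans hWC
  rw [this]
  exact subset_closure_inter_of_isPreirreducible_of_isOpen W.isIrreducible.2 hU ⟨y, h₁ hy, hyU⟩

theorem isCatenarySpace_iff_local :
    (PtTop.IsCatenarySpace X ↔ ∀ x : X, ∃ U : Opens X, x ∈ U ∧ PtTop.IsCatenarySpace U) ∧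
    (PtTop.IsCatenarySpace X → ∀ S : Set X, IsLocallyClosed S → PtTop.IsCatenarySpace S) := by
  have hsub : PtTop.IsCatenarySpace X → ∀ S : Set X, IsLocallyClosed S → PtTop.IsCatenarySpace S :=
    fun h S hS T T' hTT' => (catAt_map_iff (closureEmb S) (ordConnected_range_closureEmb hS) T T').1
      (h _ _ ((closureEmb S).monotone hTT'))
  refine ⟨⟨fun h x => ⟨⊤, trivial, hsub h _ (⊤ : Opens X).isOpen.isLocallyClosed⟩, fun h T T' hTT' => ?_⟩, hsub⟩
  obtain ⟨x, hx⟩ := T.isIrreducible.nonempty
  obtain ⟨U, hxU, hU⟩ := h x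
  have hmem : ∀ W : IrreducibleCloseds X, x ∈ W → W ∈ Set.range (closureEmb (U : Set X)) := fun W hxW => by
    rw [range_closureEmb U.isOpen.isLocallyClosed]
    exact ⟨⟨x, hxW, hxU⟩, subset_antisymm (closure_minimal Set.inter_subset_left W.isClosed)
      (subset_closure_inter_of_isPreirreducible_of_isOpen W.isIrreducible.2 U.isOpen ⟨x, hxW, hxU⟩)⟩
  obtain ⟨A, rfl⟩ := hmem T hx
  obtain ⟨B, rfl⟩ := hmem T' (hTT' hx)
  exact (catAt_map_iff (closureEmb _) (ordConnected_range_closureEmb U.isOpen.isLocallyClosed) A B).2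
    (hU A B ((closureEmb _).le_iff_le.1 hTT'))

section DimensionFunction

variable [QuasiSober X] [T0Space X] {δ : X → ℤ} (hδ : PtTop.IsDimensionFunction δ)

/-- The generic point of an irreducible closed subset. -/
noncomputable def gen (Z : IrreducibleCloseds X) : X := Z.isIrreducible.genericPoint

lemma closure_gen (Z : IrreducibleCloseds X) : closure {gen Z} = (Z : Set X) :=
  Z.isIrreducible.isGenericPoint_genericPoint Z.isClosed

/-- The closure of a point. -/
def cl (x : X) : IrreducibleCloseds X := ⟨closure {x}, isIrreducible_singleton.closure, isClosed_closure⟩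

lemma cl_gen (Z : IrreducibleCloseds X) : cl (gen Z) = Z := IrreducibleCloseds.ext (closure_gen Z)

lemma gen_cl (x : X) : gen (cl x) = x :=
  (inseparable_iff_closure_eq.2 (closure_gen (cl x))).eq

lemma cl_le_cl {x y : X} : cl x ≤ cl y ↔ y ⤳ x := specializes_iff_closure_subset.symm

include hδ in
lemma delta_gen_lt {Z W : IrreducibleCloseds X} (h : Z < W) : δ (gen Z) < δ (gen W) := by
  refine hδ.1 _ _ (cl_le_cl.1 (by rw [cl_gen, cl_gen]; exact h.le)) fun e => h.ne ?_
  rw [← cl_gen Z, ← cl_gen W, e]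

include hδ in
lemma delta_gen_covBy {Z W : IrreducibleCloseds X} (h : Z ⋖ W) : δ (gen W) = δ (gen Z) + 1 := by
  refine hδ.2 _ _ ⟨cl_le_cl.1 (by rw [cl_gen, cl_gen]; exact h.le), fun e => h.ne ?_, fun z h₁ h₂ => ?_⟩
  · rw [← cl_gen Z, ← cl_gen W, e]
  · have := h.eq_or_eq (c := cl z) (by rw [← cl_gen Z]; exact cl_le_cl.2 h₂)
      (by rw [← cl_gen W]; exact cl_le_cl.2 h₁)
    rcases this with e | e
    · exact Or.inr (by rw [← e, gen_cl])
    · exact Or.inl (by rw [← e, gen_cl])

include hδ in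
lemma length_add_le (s : LTSeries (IrreducibleCloseds X)) :
    (s.length : ℤ) + δ (gen s.head) ≤ δ (gen s.last) := by
  induction s using RelSeries.inductionOn with
  | singleton x => simp
  | cons s x hx ih =>
    have := delta_gen_lt hδ hx
    simp only [RelSeries.cons_length, RelSeries.head_cons, RelSeries.last_cons]
    push_cast; omega

include hδ in
lemma length_add_eq (s : LTSeries (IrreducibleCloseds X)) (hs : IsSaturated s) :
    (s.length : ℤ) + δ (gen s.head) = δ (gen s.last) := by
  induction s using RelSeries.inductionOn with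
  | singleton x => simp
  | cons s x hx ih =>
    obtain ⟨hcov, hs'⟩ := isSaturated_cons hs
    have := delta_gen_covBy hδ hcov
    have h' := ih hs'
    simp only [RelSeries.cons_length, RelSeries.head_cons, RelSeries.last_cons]
    push_cast; omega

include hδ in
theorem catAt_of_dimensionFunction {T T' : IrreducibleCloseds X} (h : T ≤ T') :
    CatAt T T' ∧ chainCodim T T' = ((δ (gen T') - δ (gen T)).toNat : ℕ∞) := by
  have hle : chainCodim T T' ≤ ((δ (gen T') - δ (gen T)).toNat : ℕ∞) := by
    refine chainCodim_le fun s h₁ h₂ => ?_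
    have h3 := length_add_le hδ s
    have h4 : δ (gen s.last) ≤ δ (gen T') := by
      rcases h₂.eq_or_lt with e | e
      · rw [e]
      · exact (delta_gen_lt hδ e).le
    rw [h₁] at h3
    exact_mod_cast show s.length ≤ (δ (gen T') - δ (gen T)).toNat by omega
  have hfin : chainCodim T T' ≠ ⊤ := ne_top_of_le_ne_top (ENat.coe_ne_top _) hle
  have key : ∀ s : LTSeries (IrreducibleCloseds X), s.head = T → s.last = T' → IsSaturated s →
      (s.length : ℕ∞) = ((δ (gen T') - δ (gen T)).toNat : ℕ∞) := fun s h₁ h₂ hs => by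
    have := length_add_eq hδ s hs
    rw [h₁, h₂] at this
    exact_mod_cast show s.length = (δ (gen T') - δ (gen T)).toNat by omega
  obtain ⟨s, h₁, h₂, hs, hsl⟩ := exists_saturated_chain h hfin
  have heq := hsl.symm.trans (key s h₁ h₂ hs)
  exact ⟨⟨hfin, fun t g₁ g₂ gs => (key t g₁ g₂ gs).trans heq.symm⟩, heq⟩

include hδ in
theorem dimensionFunction_sub_eq {δ' : X → ℤ} (hδ' : PtTop.IsDimensionFunction δ') {x y : X} (h : x ⤳ y) :
    δ x - δ' x = δ y - δ' y := by
  obtain ⟨s, h₁, h₂, hs, -⟩ :=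
    exists_saturated_chain (cl_le_cl.2 h) (catAt_of_dimensionFunction hδ (cl_le_cl.2 h)).1.1
  have e₁ := length_add_eq hδ s hs
  have e₂ := length_add_eq hδ' s hs
  rw [h₁, h₂, gen_cl, gen_cl] at e₁ e₂
  omega

end DimensionFunction

end Groth.SitesTopoi
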