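import Groth.Agent.DerivedCoh.KInj.Products
import Groth.Agent.DerivedCoh.Compact
import Groth.Prelude.Def_CohDer
import Mathlib.Algebra.Homology.DerivedCategory.KProjective

/-!
A projective object mapping into direct sums through finite parts is compact in the derived category.
-/

universe v u

open CategoryTheory CategoryTheory.Limits HomologicalComplex

set_option maxHeartbeats 1000000
set_option synthInstance.maxHeartbeats 400000

namespace Groth.SitesTopoi.ProjCompact

variable {A : Type u} [Category.{v} A] [Abelian A] [HasDerivedCategory.{v} A]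

lemma Q_map_surjective_source (K L : CochainComplex A ℤ) [K.IsKProjective] :
    Function.Surjective (DerivedCategory.Q.map : (K ⟶ L) → _) := fun φ => by
  obtain ⟨ψ, hψ⟩ := (CochainComplex.IsKProjective.Qh_map_bijective K _).surjective
    ((DerivedCategory.quotientCompQhIso A).hom.app K ≫ φ ≫
      (DerivedCategory.quotientCompQhIso A).inv.app L)
  obtain ⟨u, rfl⟩ := (HomotopyCategory.quotient A (ComplexShape.up ℤ)).map_surjective ψ
  refine ⟨u, ?_⟩
  rw [← cancel_epi ((DerivedCategory.quotientCompQhIso A).hom.app K),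
    ← cancel_mono ((DerivedCategory.quotientCompQhIso A).inv.app L), Category.assoc,
    Category.assoc, ← hψ, ← (DerivedCategory.quotientCompQhIso A).hom.naturality_assoc]
  simp

omit [HasDerivedCategory A] in
lemma isKProjective_single (P : A) [Projective P] :
    CochainComplex.IsKProjective ((HomologicalComplex.single A (ComplexShape.up ℤ) 0).obj P) := by
  have : CochainComplex.IsStrictlyLE ((HomologicalComplex.single A (ComplexShape.up ℤ) 0).obj P) 0 :=
    inferInstanceAs (((CochainComplex.singleFunctor A 0).obj P).IsStrictlyLE 0)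
  have : ∀ n, Projective (((HomologicalComplex.single A (ComplexShape.up ℤ) 0).obj P).X n) := fun n => by
    by_cases h : n = 0
    · subst h
      exact Projective.of_iso (singleObjXSelf (ComplexShape.up ℤ) 0 P).symm inferInstance
    · exact (isZero_single_obj_X _ _ _ _ h).projective
  exact CochainComplex.isKProjective_of_projective _ 0

open Classical in
/-- Maps out of `P` into a direct sum are finite sums, given a representation by complexes into whose
sum maps out of `P` lift to morphisms of complexes. -/
theorem bijective_homSum_of_reps [IsGrothendieckAbelian.{v} A] [HasCoproducts.{v} (DerivedCategory A)]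
    [HasCoproducts.{v} A] (P : A) {T : Type v} (X : T → DerivedCategory A)
    (K : T → CochainComplex A ℤ) (e : ∀ t, DerivedCategory.Q.obj (K t) ≅ X t)
    (hsurj : Function.Surjective (DerivedCategory.Q.map :
      ((HomologicalComplex.single A (ComplexShape.up ℤ) 0).obj P ⟶ ∐ K) → _))
    (h : ∀ (T : Type v) (X : T → A) (z : P ⟶ ∐ X), ∃ (S : Finset T) (t : ∀ i, P ⟶ X i),
      z = ∑ i ∈ S, t i ≫ Limits.Sigma.ι X i) :
    Function.Bijective (CohDer.homSumToHomCoprod ((DerivedCategory.singleFunctor A 0).obj P) X) := by
  constructor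
  · rw [injective_iff_map_eq_zero]
    intro x hx
    refine DFinsupp.ext fun i => ?_
    let p : ∐ X ⟶ X i := Sigma.desc fun j => if hji : j = i then eqToHom (congrArg X hji) else 0
    have key : ∀ y, CohDer.homSumToHomCoprod ((DerivedCategory.singleFunctor A 0).obj P) X y ≫ p = y i := by
      intro y
      induction y using DirectSum.induction_on with
      | zero => simp
      | of j f =>
        rw [Groth.DerivedCoh.Compact.homSum_of, Category.assoc, Sigma.ι_desc]
        by_cases hji : j = i
        · subst hji
          rw [dif_pos rfl, eqToHom_refl, Category.comp_id, DirectSum.of_eq_same]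
        · rw [dif_neg hji, comp_zero, DirectSum.of_eq_of_ne _ _ _ (Ne.symm hji)]
      | add a b ha hb => rw [map_add, Preadditive.add_comp, ha, hb]; rfl
    rw [← key x, hx, zero_comp]
    rfl
  · intro (φ : DerivedCategory.Q.obj ((HomologicalComplex.single A (ComplexShape.up ℤ) 0).obj P) ⟶ ∐ X)
    let j : ∀ t, X t ⟶ DerivedCategory.Q.obj (∐ K) := fun t => (e t).inv ≫ DerivedCategory.Q.map (Sigma.ι K t)
    obtain ⟨J, hJ, ⟨ε⟩⟩ := Groth.DerivedCoh.KInjRes.exists_kInjective_iso (∐ X)
    choose w hw using fun t => Groth.DerivedCoh.KInjRes.Q_map_surjective (K t) J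
      ((e t).hom ≫ Sigma.ι X t ≫ ε.inv)
    let m : DerivedCategory.Q.obj (∐ K) ⟶ ∐ X := DerivedCategory.Q.map (Sigma.desc w) ≫ ε.hom
    have hjm : ∀ t, j t ≫ m = Sigma.ι X t := fun t => by
      simp only [j, m, Category.assoc]
      rw [← Functor.map_comp_assoc, Sigma.ι_desc, hw]
      simp
    let d : ∐ X ⟶ DerivedCategory.Q.obj (∐ K) := Sigma.desc j
    have hdm : d ≫ m = 𝟙 _ := Sigma.hom_ext _ _ fun t => by
      rw [← Category.assoc, Sigma.ι_desc, hjm, Category.comp_id]
    obtain ⟨u, hu⟩ := hsurj (φ ≫ d)
    let π : ∀ t, ∐ K ⟶ K t := fun t =>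
      Sigma.desc fun s => if hst : s = t then eqToHom (congrArg K hst) else 0
    have : PreservesColimit (Discrete.functor K) (HomologicalComplex.eval A (ComplexShape.up ℤ) 0) :=
      preservesColimit_of_preserves_colimit_cocone (coproductIsCoproduct K)
        (isColimitOfPreserves _ (coproductIsCoproduct K))
    obtain ⟨cmp, hiso, hcmp⟩ : ∃ (cmp : (∐ fun t => (K t).X 0) ⟶ (∐ K).X 0), IsIso cmp ∧
        ∀ t, Limits.Sigma.ι (fun t => (K t).X 0) t ≫ cmp = (Sigma.ι K t).f 0 :=
      ⟨sigmaComparison (HomologicalComplex.eval A (ComplexShape.up ℤ) 0) K,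
        inferInstanceAs (IsIso (sigmaComparison (HomologicalComplex.eval A (ComplexShape.up ℤ) 0) K)),
        fun t => ι_comp_sigmaComparison (HomologicalComplex.eval A (ComplexShape.up ℤ) 0) K t⟩
    obtain ⟨S, a, ha⟩ := h T (fun t => (K t).X 0)
      ((singleObjXSelf (ComplexShape.up ℤ) 0 P).inv ≫ u.f 0 ≫ inv cmp)
    have h0 : (singleObjXSelf (ComplexShape.up ℤ) 0 P).inv ≫ u.f 0 = ∑ t ∈ S, a t ≫ (Sigma.ι K t).f 0 := by
      have := ha =≫ cmp
      simp only [Category.assoc] at this
      rw [IsIso.inv_hom_id] at this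
      refine ((congrArg (fun k => _ ≫ k) (Category.comp_id (u.f 0))).symm.trans this).trans ?_
      refine (Preadditive.sum_comp _ _ _).trans (Finset.sum_congr rfl fun t _ => ?_)
      exact (Category.assoc _ _ _).trans (congrArg (fun k => a t ≫ k) (hcmp t))
    have hsum : u = ∑ t ∈ S, u ≫ π t ≫ Sigma.ι K t := by
      refine HomologicalComplex.from_single_hom_ext
        ((cancel_epi (singleObjXSelf (ComplexShape.up ℤ) 0 P).inv).1 ?_)
      let E := (HomologicalComplex.eval A (ComplexShape.up ℤ) 0)
      have hE : (∑ t ∈ S, u ≫ π t ≫ Sigma.ι K t).f 0 = ∑ t ∈ S, u.f 0 ≫ (π t).f 0 ≫ (Sigma.ι K t).f 0 := by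
        refine (E.map_sum _ _).trans ?_
        rfl
      rw [hE, Preadditive.comp_sum, h0]
      refine Finset.sum_congr rfl fun t ht => ?_
      rw [← Category.assoc, h0, Preadditive.sum_comp, Finset.sum_eq_single t]
      · rw [Category.assoc, ← Category.assoc ((Sigma.ι K t).f 0), ← comp_f, Sigma.ι_desc, dif_pos rfl,
          eqToHom_refl, id_f, Category.id_comp]
      · intro s _ hst
        rw [Category.assoc, ← Category.assoc ((Sigma.ι K s).f 0), ← comp_f, Sigma.ι_desc, dif_neg hst]
        simp
      · exact fun hn => absurd ht hn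
    refine ⟨∑ t ∈ S, DirectSum.of (fun t => (DerivedCategory.singleFunctor A 0).obj P ⟶ X t) t
      (DerivedCategory.Q.map (u ≫ π t) ≫ (e t).hom), ?_⟩
    have hφ : DerivedCategory.Q.map u ≫ m = φ := by
      rw [hu, Category.assoc, hdm, Category.comp_id]
    rw [← hφ, hsum, map_sum, Functor.map_sum, Preadditive.sum_comp]
    refine Finset.sum_congr rfl fun t _ => ?_
    rw [Groth.DerivedCoh.Compact.homSum_of, ← hsum]
    have key : ∀ {W : DerivedCategory A} (α : W ⟶ DerivedCategory.Q.obj (K t)),
        (α ≫ (e t).hom) ≫ Limits.Sigma.ι X t =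
          (α ≫ DerivedCategory.Q.map (Sigma.ι K t)) ≫ m := fun {W} α => by
      rw [← hjm t]
      simp only [j, Category.assoc, Iso.hom_inv_id_assoc]
    refine (key (DerivedCategory.Q.map (u ≫ π t))).trans ?_
    refine congrArg (fun k => k ≫ m) ?_
    exact (DerivedCategory.Q.map_comp _ _).symm.trans (congrArg DerivedCategory.Q.map (Category.assoc _ _ _))

/-- A projective object through which maps into direct sums are finite sums is compact in the
derived category. -/
theorem isCompactObject_single [IsGrothendieckAbelian.{v} A] [HasCoproducts.{v} (DerivedCategory A)]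
    (P : A) [Projective P]
    (h : ∀ (T : Type v) (X : T → A) (z : P ⟶ ∐ X), ∃ (S : Finset T) (t : ∀ i, P ⟶ X i),
      z = ∑ i ∈ S, t i ≫ Limits.Sigma.ι X i) :
    CohDer.IsCompactObject ((DerivedCategory.singleFunctor A 0).obj P) := fun T X =>
  haveI : HasCoproducts.{v} A := fun _ => inferInstance
  haveI := isKProjective_single P
  bijective_homSum_of_reps P X (fun t => (DerivedCategory.Q (C := A)).objPreimage (X t))
    (fun t => (DerivedCategory.Q (C := A)).objObjPreimageIso (X t)) (Q_map_surjective_source _ _) h

end Groth.SitesTopoi.ProjCompact
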