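import Mathlib.Topology.JacobsonSpace
import Mathlib.Topology.Constructible

/-!
Closed points of Jacobson spaces and constructible sets.
-/

open Set Topology

namespace Groth.SitesTopoi

universe u
variable {X : Type u} [TopologicalSpace X] [JacobsonSpace X]

local notation "ι₀" => (Subtype.val : closedPoints X → X)

lemma closedPoints_open_subset {U V : Set X} (hU : IsOpen U) (hV : IsOpen V)
    (h : ι₀ ⁻¹' U ⊆ ι₀ ⁻¹' V) : U ⊆ V := by
  by_contra hne
  obtain ⟨x, hxU, hxV⟩ := Set.not_subset.1 hne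
  obtain ⟨y, ⟨hyU, hyV⟩, hy⟩ := nonempty_inter_closedPoints (Z := U ∩ Vᶜ) ⟨x, hxU, hxV⟩
    (hU.isLocallyClosed.inter hV.isClosed_compl.isLocallyClosed)
  exact hyV (h (show (⟨y, hy⟩ : closedPoints X) ∈ ι₀ ⁻¹' U from hyU))

lemma closedPoints_isCompact_iff {U : Set X} (hU : IsOpen U) :
    IsCompact U ↔ IsCompact (ι₀ ⁻¹' U) := by
  constructor
  · intro h
    rw [IsInducing.subtypeVal.isCompact_iff, image_preimage_eq_inter_range, Subtype.range_coe,
      isCompact_iff_finite_subcover]
    intro κ W hW hcov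
    obtain ⟨t, ht⟩ := h.elim_finite_subcover W hW (by
      refine closedPoints_open_subset hU (isOpen_iUnion hW) fun x hx => hcov ⟨hx, x.2⟩)
    exact ⟨t, inter_subset_left.trans ht⟩
  · intro h
    rw [isCompact_iff_finite_subcover]
    intro κ W hW hcov
    obtain ⟨t, ht⟩ := h.elim_finite_subcover (fun i => ι₀ ⁻¹' W i)
      (fun i => (hW i).preimage continuous_subtype_val) (by
        rw [← preimage_iUnion]; exact preimage_mono hcov)
    refine ⟨t, closedPoints_open_subset hU (isOpen_biUnion fun i _ => hW i) ?_⟩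
    rwa [preimage_iUnion₂]

lemma closedPoints_isRetrocompact_iff {U : Set X} (hU : IsOpen U) :
    IsRetrocompact U ↔ IsRetrocompact (ι₀ ⁻¹' U) := by
  constructor
  · intro h W hWc hWo
    obtain ⟨W', hW', rfl⟩ := isOpen_induced_iff.1 hWo
    rw [← preimage_inter]
    exact (closedPoints_isCompact_iff (hU.inter hW')).1 (h ((closedPoints_isCompact_iff hW').2 hWc) hW')
  · intro h W hWc hWo
    rw [closedPoints_isCompact_iff (hU.inter hWo), preimage_inter]
    exact h ((closedPoints_isCompact_iff hWo).1 hWc) (hWo.preimage continuous_subtype_val)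

lemma closedPoints_isConstructible_preimage {E : Set X} (hE : IsConstructible E) :
    IsConstructible (ι₀ ⁻¹' E) := by
  induction hE using IsConstructible.empty_union_induction with
  | open_retrocompact U hU hUr =>
    exact ((closedPoints_isRetrocompact_iff hU).1 hUr).isConstructible (hU.preimage continuous_subtype_val)
  | union s _ t _ hs ht => exact hs.union ht
  | compl s _ hs => exact hs.compl

lemma isConstructible_locallyClosed_union {E : Set X} (hE : IsConstructible E) :
    (∀ x ∈ E, ∃ L ⊆ E, IsLocallyClosed L ∧ x ∈ L) ∧ (∀ x ∉ E, ∃ L ⊆ Eᶜ, IsLocallyClosed L ∧ x ∈ L) := by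
  induction hE using IsConstructible.empty_union_induction with
  | open_retrocompact U hU hUr =>
    exact ⟨fun x hx => ⟨U, subset_rfl, hU.isLocallyClosed, hx⟩,
      fun x hx => ⟨Uᶜ, subset_rfl, hU.isClosed_compl.isLocallyClosed, hx⟩⟩
  | union s _ t _ hs ht =>
    refine ⟨?_, fun x hx => ?_⟩
    · rintro x (hx | hx)
      · obtain ⟨L, h1, h2⟩ := hs.1 x hx
        exact ⟨L, h1.trans subset_union_left, h2⟩
      · obtain ⟨L, h1, h2⟩ := ht.1 x hx
        exact ⟨L, h1.trans subset_union_right, h2⟩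
    · rw [mem_union, not_or] at hx
      obtain ⟨L, h1, h2, h3⟩ := hs.2 x hx.1
      obtain ⟨M, g1, g2, g3⟩ := ht.2 x hx.2
      exact ⟨L ∩ M, by rw [compl_union]; exact inter_subset_inter h1 g1, h2.inter g2, h3, g3⟩
  | compl s _ hs => exact ⟨hs.2, fun x hx => by simpa using hs.1 x (by simpa using hx)⟩

lemma closedPoints_constructible_subset {E E' : Set X} (hE : IsConstructible E) (hE' : IsConstructible E')
    (h : ι₀ ⁻¹' E ⊆ ι₀ ⁻¹' E') : E ⊆ E' := by
  intro x hx
  by_contra hx'
  obtain ⟨L, hL, hLlc, hxL⟩ := (isConstructible_locallyClosed_union (hE.sdiff hE')).1 x ⟨hx, hx'⟩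
  obtain ⟨y, hy, hyc⟩ := nonempty_inter_closedPoints ⟨x, hxL⟩ hLlc
  exact (hL hy).2 (h (show (⟨y, hyc⟩ : closedPoints X) ∈ ι₀ ⁻¹' E from (hL hy).1))

lemma closedPoints_constructible_surjective {F : Set (closedPoints X)} (hF : IsConstructible F) :
    ∃ E : Set X, IsConstructible E ∧ ι₀ ⁻¹' E = F := by
  induction hF using IsConstructible.empty_union_induction with
  | open_retrocompact U hU hUr =>
    obtain ⟨U', hU', rfl⟩ := isOpen_induced_iff.1 hU
    exact ⟨U', ((closedPoints_isRetrocompact_iff hU').2 hUr).isConstructible hU', rfl⟩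
  | union s _ t _ hs ht =>
    obtain ⟨S, hS, rfl⟩ := hs
    obtain ⟨T, hT, rfl⟩ := ht
    exact ⟨S ∪ T, hS.union hT, rfl⟩
  | compl s _ hs =>
    obtain ⟨S, hS, rfl⟩ := hs
    exact ⟨Sᶜ, hS.compl, rfl⟩

end Groth.SitesTopoi
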