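import Groth.Agent.SitesTopoi.SheafUtil
import Mathlib.Topology.Sheaves.Functors
import Mathlib.CategoryTheory.Adjunction.FullyFaithful

/-!
Direct image of sheaves of sets along inducing maps.
-/

open CategoryTheory CategoryTheory.Limits TopologicalSpace Opposite Topology

namespace Groth.SitesTopoi

universe u
variable {Z X : TopCat.{u}} {i : Z ⟶ X} (hi : IsInducing i)

/-- Extend a map between direct images to the original sheaves. -/
noncomputable def pushPreimage {F G : Z.Sheaf (Type u)}
    (ψ : (TopCat.Sheaf.pushforward (Type u) i).obj F ⟶ (TopCat.Sheaf.pushforward (Type u) i).obj G)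
    (V : Opens Z) (s : F.1.obj (op V)) : G.1.obj (op V) :=
  res G.1 (hi.map_functorObj V).ge (ψ.1.app (op (hi.functorObj V)) (res F.1 (hi.map_functorObj V).le s))

lemma pushPreimage_map_eq {F G : Z.Sheaf (Type u)}
    (ψ : (TopCat.Sheaf.pushforward (Type u) i).obj F ⟶ (TopCat.Sheaf.pushforward (Type u) i).obj G)
    {U : Opens X} {V : Opens Z} (h : (Opens.map i).obj U ≤ V) (s : F.1.obj (op V)) :
    res G.1 h (pushPreimage hi ψ V s) = ψ.1.app (op U) (res F.1 h s) := by
  have hU : U ≤ hi.functorObj V := hi.le_functorObj_iff.2 h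
  have := app_res ψ.1 hU (res F.1 (hi.map_functorObj V).le s)
  have e₁ : res ((TopCat.Sheaf.pushforward (Type u) i).obj F).1 hU (res F.1 (hi.map_functorObj V).le s) =
      res F.1 h s := res_res F.1 (hi.map_functorObj V).le ((Opens.map i).map (homOfLE hU)).le s
  rw [e₁] at this
  rw [this, pushPreimage, res_res]
  rfl

/-- Direct image along an inducing map is fully faithful. -/
noncomputable def pushforwardFullyFaithful : (TopCat.Sheaf.pushforward (Type u) i).FullyFaithful where
  preimage {F G} ψ := ⟨{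
    app := fun V => TypeCat.ofHom (fun s => pushPreimage hi ψ V.unop s)
    naturality := fun V W f => by
      ext s
      change pushPreimage hi ψ W.unop (F.1.map f s) = G.1.map f (pushPreimage hi ψ V.unop s)
      have hf : W.unop ≤ V.unop := f.unop.le
      have hW : (Opens.map i).obj (hi.functorObj W.unop) ≤ V.unop := (hi.map_functorObj _).le.trans hf
      apply (res_bijective_of_eq G.1 (hi.map_functorObj W.unop).le (hi.map_functorObj W.unop)).1
      rw [pushPreimage_map_eq]
      change ψ.1.app _ (res F.1 _ (res F.1 hf s)) = res G.1 _ (res G.1 hf (pushPreimage hi ψ V.unop s))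
      rw [res_res, res_res]
      exact (pushPreimage_map_eq hi ψ hW s).symm }⟩
  map_preimage {F G} ψ := by
    refine CategoryTheory.Sheaf.hom_ext (NatTrans.ext (funext fun U => ?_))
    ext s
    change pushPreimage hi ψ ((Opens.map i).obj U.unop) s = ψ.1.app U s
    have := pushPreimage_map_eq hi ψ (le_refl ((Opens.map i).obj U.unop)) s
    rwa [res_self, res_self] at this
  preimage_map {F G} φ := by
    refine CategoryTheory.Sheaf.hom_ext (NatTrans.ext (funext fun V => ?_))
    ext s
    change pushPreimage hi _ V.unop s = φ.1.app V s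
    apply (res_bijective_of_eq G.1 (hi.map_functorObj V.unop).le (hi.map_functorObj V.unop)).1
    rw [pushPreimage_map_eq]
    exact app_res φ.1 _ s

include hi in
theorem isIso_counit_of_isInducing (F : Z.Sheaf (Type u)) :
    IsIso ((TopCat.Sheaf.pullbackPushforwardAdjunction (Type u) i).counit.app F) := by
  have := (pushforwardFullyFaithful hi).full
  have := (pushforwardFullyFaithful hi).faithful
  infer_instance

theorem unique_stalk_of_notMem (hcl : IsClosed (Set.range i)) (F : Z.Sheaf (Type u)) {x : X}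
    (hx : x ∉ Set.range i) :
    Nonempty (Unique (((TopCat.Sheaf.pushforward (Type u) i).obj F).presheaf.stalk x)) := by
  let C : Opens X := ⟨(Set.range i)ᶜ, hcl.isOpen_compl⟩
  have hbot : ∀ V : Opens X, V ≤ C → (Opens.map i).obj V = ⊥ := fun V hV =>
    eq_bot_iff.2 fun z hz => (hV hz ⟨z, rfl⟩).elim
  obtain ⟨s₀⟩ := nonempty_sections_of_eq_bot F (hbot C le_rfl)
  set P := (TopCat.Sheaf.pushforward (Type u) i).obj F
  refine ⟨⟨⟨P.presheaf.germ C x hx s₀⟩, fun t => ?_⟩⟩
  obtain ⟨V, hxV, s, rfl⟩ := P.presheaf.exists_germ_eq t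
  exact TopCat.Presheaf.germ_ext P.presheaf (W := V ⊓ C) ⟨hxV, hx⟩ (homOfLE inf_le_left) (homOfLE inf_le_right)
    (unique_sections_of_eq_bot F (hbot _ inf_le_right) _ _)

/-- When the stalks outside the closed image are singletons, sections only depend on the preimage. -/
lemma res_bijective_of_unique_stalks (hcl : IsClosed (Set.range i)) (G : X.Sheaf (Type u))
    (h : ∀ x : X, x ∉ Set.range i → Nonempty (Unique (G.presheaf.stalk x))) {U U' : Opens X} (hle : U ≤ U')
    (he : (Opens.map i).obj U' ≤ (Opens.map i).obj U) : Function.Bijective (res G.1 hle) := by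
  let C : Opens X := ⟨(Set.range i)ᶜ, hcl.isOpen_compl⟩
  have hC : ∀ V : Opens X, V ≤ C → Nonempty (Unique (G.1.obj (op V))) := fun V hV =>
    existsUnique_section_of_unique_stalks G fun x hx => h x (hV hx)
  have hcov : U' ≤ iSup (fun b : ULift.{u} Bool => if b.down then U else U' ⊓ C) := by
    intro x hx
    rw [Opens.mem_iSup]
    by_cases hxr : x ∈ Set.range i
    · obtain ⟨z, rfl⟩ := hxr
      exact ⟨⟨true⟩, by simpa using he (show z ∈ (Opens.map i).obj U' from hx)⟩
    · exact ⟨⟨false⟩, by simpa using ⟨hx, hxr⟩⟩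
  have hb : ∀ b : ULift.{u} Bool, (if b.down then U else U' ⊓ C) ≤ U' := by
    rintro ⟨_ | _⟩
    exacts [inf_le_left, hle]
  refine ⟨fun a b hab => ?_, fun s => ?_⟩
  · refine sheaf_ext G _ hb hcov ?_
    rintro ⟨_ | _⟩
    · obtain ⟨inst⟩ := hC (U' ⊓ C) inf_le_right; exact @Subsingleton.elim _ (@Unique.instSubsingleton _ inst) _ _
    · exact hab
  · obtain ⟨iu⟩ := hC (U' ⊓ C) inf_le_right
    obtain ⟨t, ht, -⟩ := sheaf_glue G _ hb hcov
      (fun b => match b with
        | ⟨true⟩ => s
        | ⟨false⟩ => iu.default) (by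
      rintro ⟨_ | _⟩ ⟨_ | _⟩
      · rfl
      · obtain ⟨inst⟩ := hC ((U' ⊓ C) ⊓ U) (inf_le_left.trans inf_le_right); exact @Subsingleton.elim _ (@Unique.instSubsingleton _ inst) _ _
      · obtain ⟨inst⟩ := hC (U ⊓ (U' ⊓ C)) (inf_le_right.trans inf_le_right); exact @Subsingleton.elim _ (@Unique.instSubsingleton _ inst) _ _
      · rfl)
    exact ⟨t, ht ⟨true⟩⟩

include hi in
theorem mem_essImage_pushforward (hcl : IsClosed (Set.range i)) (G : X.Sheaf (Type u))
    (h : ∀ x : X, x ∉ Set.range i → Nonempty (Unique (G.presheaf.stalk x))) :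
    (TopCat.Sheaf.pushforward (Type u) i).essImage G := by
  have hR := fun V => hi.map_functorObj V
  let F₀ : Z.Presheaf (Type u) := hi.functor.op ⋙ G.1
  have hbij : ∀ {U : Opens X} {V : Opens Z} (hle : U ≤ hi.functorObj V), V ≤ (Opens.map i).obj U →
      Function.Bijective (res G.1 hle) := fun {U V} hle hV =>
    res_bijective_of_unique_stalks hcl G h hle ((hR V).le.trans hV)
  have hF₀ : F₀.IsSheaf := by
    rw [TopCat.Presheaf.isSheaf_iff_isSheafUniqueGluing_types]
    intro ι V sf hsf
    have hle : ∀ k, hi.functorObj (V k) ≤ hi.functorObj (iSup V) :=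
      fun k => hi.le_functorObj_iff.2 ((hR _).le.trans (le_iSup V k))
    have hU : (⨆ k, hi.functorObj (V k)) ≤ hi.functorObj (iSup V) := iSup_le hle
    have hcov : iSup V ≤ (Opens.map i).obj (⨆ k, hi.functorObj (V k)) := by
      intro z hz
      obtain ⟨k, hk⟩ := Opens.mem_iSup.1 hz
      exact Opens.mem_iSup.2 ⟨k, (hi.mem_functorObj_iff _).2 hk⟩
    have hb := hbij hU hcov
    have hcompat : ∀ k l, res G.1 (inf_le_left : hi.functorObj (V k) ⊓ hi.functorObj (V l) ≤ _) (sf k) =
        res G.1 (inf_le_right : hi.functorObj (V k) ⊓ hi.functorObj (V l) ≤ _) (sf l) := by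
      intro k l
      have hle' : hi.functorObj (V k) ⊓ hi.functorObj (V l) ≤ hi.functorObj (V k ⊓ V l) :=
        hi.le_functorObj_iff.2 fun z hz => ⟨(hi.mem_functorObj_iff _).1 hz.1, (hi.mem_functorObj_iff _).1 hz.2⟩
      have e := congrArg (res G.1 hle') (hsf k l)
      change res G.1 hle' (res G.1 (hi.le_functorObj_iff.2 ((hR (V k ⊓ V l)).le.trans inf_le_left)) (sf k)) =
        res G.1 hle' (res G.1 (hi.le_functorObj_iff.2 ((hR (V k ⊓ V l)).le.trans inf_le_right)) (sf l)) at e
      rwa [res_res, res_res] at e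
    obtain ⟨t, ht, htu⟩ := sheaf_glue G (fun k => hi.functorObj (V k)) (le_iSup _) le_rfl sf hcompat
    obtain ⟨t', rfl⟩ := hb.2 t
    refine ⟨t', fun k => ?_, fun s hs => hb.1 (htu _ fun k => ?_)⟩
    · have := ht k; rw [res_res] at this; exact this
    · rw [res_res]; exact hs k
  refine ⟨⟨F₀, hF₀⟩, ⟨(fullyFaithfulSheafToPresheaf _ _).preimageIso (NatIso.ofComponents (fun U => ?_) ?_)⟩⟩
  · exact (Equiv.ofBijective _ (hbij (hi.le_functorObj_iff.2 le_rfl) le_rfl :
      Function.Bijective (res G.1 (hi.le_functorObj_iff.2 le_rfl : U.unop ≤ _)))).toIso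
  · intro U V f
    ext s
    change res G.1 _ (res G.1 _ s) = res G.1 f.unop.le (res G.1 _ s)
    rw [res_res, res_res]

end Groth.SitesTopoi
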