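import Mathlib.Topology.Sheaves.SheafCondition.UniqueGluing
import Mathlib.Topology.Sheaves.Stalks

/-!
Small utilities for sheaves of sets on topological spaces.
-/

open CategoryTheory CategoryTheory.Limits TopologicalSpace Opposite

namespace Groth.SitesTopoi

universe u
variable {X : TopCat.{u}}

/-- Restriction of a section along an inclusion of opens. -/
abbrev res (F : X.Presheaf (Type u)) {U V : Opens X} (h : V ≤ U) (s : F.obj (op U)) : F.obj (op V) :=
  F.map (homOfLE h).op s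

lemma res_res (F : X.Presheaf (Type u)) {U V W : Opens X} (h : V ≤ U) (h' : W ≤ V) (s : F.obj (op U)) :
    res F h' (res F h s) = res F (h'.trans h) s :=
  (FunctorToTypes.map_comp_apply F (homOfLE h).op (homOfLE h').op s).symm

lemma res_self (F : X.Presheaf (Type u)) {U : Opens X} (h : U ≤ U) (s : F.obj (op U)) : res F h s = s :=
  FunctorToTypes.map_id_apply F s

lemma app_res {F G : X.Presheaf (Type u)} (φ : F ⟶ G) {U V : Opens X} (h : V ≤ U) (s : F.obj (op U)) :
    φ.app (op V) (res F h s) = res G h (φ.app (op U) s) :=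
  NatTrans.naturality_apply φ (homOfLE h).op s

lemma res_bijective_of_eq (F : X.Presheaf (Type u)) {U V : Opens X} (h : V ≤ U) (e : V = U) :
    Function.Bijective (res F h) := by
  subst e
  exact ⟨fun a b hab => by rwa [res_self, res_self] at hab, fun b => ⟨b, res_self F h b⟩⟩

lemma sheaf_ext (F : X.Sheaf (Type u)) {ι : Type u} {V : Opens X} (U : ι → Opens X) (hU : ∀ i, U i ≤ V)
    (hcov : V ≤ iSup U) {s t : F.1.obj (op V)} (h : ∀ i, res F.1 (hU i) s = res F.1 (hU i) t) : s = t :=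
  F.eq_of_locally_eq' U V (fun i => homOfLE (hU i)) hcov s t h

lemma sheaf_glue (F : X.Sheaf (Type u)) {ι : Type u} {V : Opens X} (U : ι → Opens X) (hU : ∀ i, U i ≤ V)
    (hcov : V ≤ iSup U) (s : ∀ i, F.1.obj (op (U i)))
    (hs : ∀ i j, res F.1 (inf_le_left : U i ⊓ U j ≤ U i) (s i) = res F.1 (inf_le_right : U i ⊓ U j ≤ U j) (s j)) :
    ∃! t : F.1.obj (op V), ∀ i, res F.1 (hU i) t = s i :=
  F.existsUnique_gluing' U V (fun i => homOfLE (hU i)) hcov s (fun i j => hs i j)

lemma unique_sections_of_eq_bot (F : X.Sheaf (Type u)) {U : Opens X} (h : U = ⊥) (a b : F.1.obj (op U)) : a = b :=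
  sheaf_ext F (ι := PEmpty.{u+1}) (fun i => i.elim) (fun i => i.elim) (by simp [h]) (fun i => i.elim)

lemma nonempty_sections_of_eq_bot (F : X.Sheaf (Type u)) {U : Opens X} (h : U = ⊥) :
    Nonempty (F.1.obj (op U)) := by
  obtain ⟨t, -, -⟩ := sheaf_glue F (ι := PEmpty.{u+1}) (V := U) (fun i => i.elim) (fun i => i.elim) (by simp [h])
    (fun i => i.elim) (fun i => i.elim)
  exact ⟨t⟩

lemma section_ext_germ (F : X.Sheaf (Type u)) {U : Opens X} (s t : F.1.obj (op U))
    (h : ∀ (x : X) (hx : x ∈ U), F.presheaf.germ U x hx s = F.presheaf.germ U x hx t) : s = t :=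
  TopCat.Presheaf.section_ext F U s t h

/-- If all stalks over an open are singletons, there is exactly one section. -/
lemma existsUnique_section_of_unique_stalks (F : X.Sheaf (Type u)) {U : Opens X}
    (h : ∀ x ∈ U, Nonempty (Unique (F.presheaf.stalk x))) : Nonempty (Unique (F.1.obj (op U))) := by
  have hsub : ∀ (V : Opens X), V ≤ U → ∀ s t : F.1.obj (op V), s = t := fun V hV s t =>
    section_ext_germ F s t fun x hx => by
      obtain ⟨inst⟩ := h x (hV hx); exact Subsingleton.elim _ _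
  have hloc : ∀ x : {x : X // x ∈ U}, ∃ (V : Opens X), x.1 ∈ V ∧ V ≤ U ∧ Nonempty (F.1.obj (op V)) := fun x => by
    obtain ⟨inst⟩ := h x.1 x.2
    obtain ⟨V, hxV, s, -⟩ := F.presheaf.exists_germ_eq (default : F.presheaf.stalk x.1)
    exact ⟨V ⊓ U, ⟨hxV, x.2⟩, inf_le_right, ⟨res F.1 inf_le_left s⟩⟩
  choose V hxV hVU hne using hloc
  obtain ⟨t, -, -⟩ := sheaf_glue F V hVU (fun x hx => Opens.mem_iSup.2 ⟨⟨x, hx⟩, hxV _⟩)
    (fun i => (hne i).some) (fun i j => hsub _ (inf_le_left.trans (hVU i)) _ _)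
  exact ⟨⟨⟨t⟩, fun s => hsub U le_rfl s t⟩⟩

end Groth.SitesTopoi
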