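import Groth.Prelude.Def_W4stktopologysheavesBas
import Groth.Agent.SitesTopoi.SheafUtil

/-!
Sheaves of sets on a basis of a topology.
-/

open CategoryTheory TopologicalSpace Opposite

namespace Groth.SitesTopoi.Bas

universe u
variable {X : Type u} [TopologicalSpace X] {B : Set (Opens X)}

/-- A family on `c` agreeing on every member below two indices. -/
def StrongCompat (F : ShB.Pre B) {ι : Type u} (V : ι → B) (s : ∀ i, F.obj (V i)) : Prop :=
  ∀ (i j : ι) (w : B) (hi : (w : Opens X) ≤ V i) (hj : (w : Opens X) ≤ V j), F.res hi (s i) = F.res hj (s j)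

/-- Unique gluing of strongly compatible families. -/
def GlueStrong (F : ShB.Pre B) (c : ShB.Cover B) : Prop :=
  ∀ s : ∀ i, F.obj (c.V i), StrongCompat F c.V s → ∃! t : F.obj c.U, ∀ i, F.res (c.V_le i) t = s i

lemma exists_small_member (hB : Opens.IsBasis B) {U : Opens X} {x : X} (hx : x ∈ U) :
    ∃ b : B, x ∈ (b : Opens X) ∧ (b : Opens X) ≤ U := by
  obtain ⟨b, hb, hxb, hbU⟩ := Opens.isBasis_iff_nbhd.1 hB hx
  exact ⟨⟨b, hb⟩, hxb, hbU⟩

variable (F : ShB.Pre B)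

/-- Every covering by members is refined by one satisfying the gluing property. -/
def HasGluingRefinements : Prop :=
  ∀ (U : B) (ι : Type u) (V : ι → B), (∀ i, (V i : Opens X) ≤ (U : Opens X)) →
    (U : Opens X) ≤ ⨆ i, (V i : Opens X) →
    ∃ c : ShB.Cover B, c.U = U ∧ GlueStrong F c ∧ ∀ i' : c.ι, ∃ i, (c.V i' : Opens X) ≤ (V i : Opens X)

variable {F}

lemma HasGluingRefinements.separated (H : HasGluingRefinements F) {U : B} {ι : Type u} (V : ι → B)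
    (hV : ∀ i, (V i : Opens X) ≤ (U : Opens X)) (hcov : (U : Opens X) ≤ ⨆ i, (V i : Opens X)) {s t : F.obj U}
    (h : ∀ i, F.res (hV i) s = F.res (hV i) t) : s = t := by
  obtain ⟨c, rfl, hglue, href⟩ := H U ι V hV hcov
  refine (hglue (fun i' => F.res (c.V_le i') s) (fun i j w hi hj => by rw [F.res_comp, F.res_comp])).unique
    (fun i' => rfl) fun i' => ?_
  obtain ⟨i, hi⟩ := href i'
  rw [← F.res_comp (hV i) hi t, ← h i, F.res_comp]

lemma HasGluingRefinements.strongCompat (hB : Opens.IsBasis B) (H : HasGluingRefinements F) (c : ShB.Cover B)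
    {s : ∀ i, F.obj (c.V i)}
    (hs : ∀ i j k, F.res (c.W_le_left i j k) (s i) = F.res (c.W_le_right i j k) (s j)) :
    StrongCompat F c.V s := by
  intro i j w hi hj
  let ι := {p : c.κ i j × B // (p.2 : Opens X) ≤ c.W i j p.1 ∧ (p.2 : Opens X) ≤ w}
  refine H.separated (U := w) (ι := ι) (fun p => p.1.2) (fun p => p.2.2) ?_ fun p => ?_
  · intro x hx
    obtain ⟨k, hk⟩ := Opens.mem_iSup.1 (c.W_cover i j ⟨hi hx, hj hx⟩)
    obtain ⟨b, hxb, hb⟩ := exists_small_member hB (U := (w : Opens X) ⊓ c.W i j k) ⟨hx, hk⟩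
    exact Opens.mem_iSup.2 ⟨⟨(k, b), hb.trans inf_le_right, hb.trans inf_le_left⟩, hxb⟩
  · rw [F.res_comp, F.res_comp, ← F.res_comp (c.W_le_left i j p.1.1) p.2.1, hs i j p.1.1, F.res_comp]

lemma HasGluingRefinements.existsUnique_glue (hB : Opens.IsBasis B) (H : HasGluingRefinements F) {U : B}
    {ι : Type u} (V : ι → B) (hV : ∀ i, (V i : Opens X) ≤ (U : Opens X))
    (hcov : (U : Opens X) ≤ ⨆ i, (V i : Opens X)) (s : ∀ i, F.obj (V i)) (hs : StrongCompat F V s) :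
    ∃! t : F.obj U, ∀ i, F.res (hV i) t = s i := by
  obtain ⟨d, rfl, hglue, href⟩ := H U ι V hV hcov
  choose φ hφ using href
  obtain ⟨t, ht, -⟩ := hglue (fun a => F.res (hφ a) (s (φ a)))
    (fun a b w ha hb => by rw [F.res_comp, F.res_comp]; exact hs _ _ w _ _)
  refine ⟨t, fun i => ?_, fun t' ht' => H.separated V hV hcov fun i => ?_⟩
  · let ι' := {p : d.ι × B // (p.2 : Opens X) ≤ d.V p.1 ∧ (p.2 : Opens X) ≤ V i}
    refine H.separated (U := V i) (ι := ι') (fun p => p.1.2) (fun p => p.2.2) ?_ fun p => ?_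
    · intro x hx
      obtain ⟨a, ha⟩ := Opens.mem_iSup.1 (d.V_cover (hV i hx))
      obtain ⟨b, hxb, hb⟩ := exists_small_member hB (U := (V i : Opens X) ⊓ d.V a) ⟨hx, ha⟩
      exact Opens.mem_iSup.2 ⟨⟨(a, b), hb.trans inf_le_right, hb.trans inf_le_left⟩, hxb⟩
    · rw [F.res_comp, ← F.res_comp (d.V_le p.1.1) p.2.1 t, ht, F.res_comp]
      exact (hs i (φ p.1.1) p.1.2 p.2.2 (p.2.1.trans (hφ _))).symm
  · rw [ht']
    symm
    let ι' := {p : d.ι × B // (p.2 : Opens X) ≤ d.V p.1 ∧ (p.2 : Opens X) ≤ V i}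
    refine H.separated (U := V i) (ι := ι') (fun p => p.1.2) (fun p => p.2.2) ?_ fun p => ?_
    · intro x hx
      obtain ⟨a, ha⟩ := Opens.mem_iSup.1 (d.V_cover (hV i hx))
      obtain ⟨b, hxb, hb⟩ := exists_small_member hB (U := (V i : Opens X) ⊓ d.V a) ⟨hx, ha⟩
      exact Opens.mem_iSup.2 ⟨⟨(a, b), hb.trans inf_le_right, hb.trans inf_le_left⟩, hxb⟩
    · rw [F.res_comp, ← F.res_comp (d.V_le p.1.1) p.2.1 t, ht, F.res_comp]
      exact (hs i (φ p.1.1) p.1.2 p.2.2 (p.2.1.trans (hφ _))).symm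

theorem HasGluingRefinements.isSheaf (hB : Opens.IsBasis B) (H : HasGluingRefinements F) : ShB.IsSheaf F :=
  fun c s hs => H.existsUnique_glue hB c.V c.V_le c.V_cover s (H.strongCompat hB c hs)

theorem isSheaf_hasGluingRefinements (hB : Opens.IsBasis B) (hF : ShB.IsSheaf F) : HasGluingRefinements F := by
  intro U ι V hV hcov
  let c : ShB.Cover B :=
    { U := U, ι := ι, V := V, V_le := hV, V_cover := hcov
      κ := fun i j => {w : B // (w : Opens X) ≤ V i ∧ (w : Opens X) ≤ V j}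
      W := fun i j w => w.1
      W_le_left := fun i j w => w.2.1
      W_le_right := fun i j w => w.2.2
      W_cover := fun i j x hx => by
        obtain ⟨b, hxb, hb⟩ := exists_small_member hB hx
        exact Opens.mem_iSup.2 ⟨⟨b, hb.trans inf_le_left, hb.trans inf_le_right⟩, hxb⟩ }
  exact ⟨c, rfl, fun s hs => hF c s (fun i j k => hs i j k.1 k.2.1 k.2.2), fun i => ⟨i, le_rfl⟩⟩

theorem isSheaf_iff_cofinal (hB : Opens.IsBasis B) (C : ∀ U : B, Set (ShB.Cover B))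
    (hCU : ∀ U, ∀ c ∈ C U, c.U = U)
    (hC : ∀ (U : B) (ι : Type u) (V : ι → B), (∀ i, (V i : Opens X) ≤ (U : Opens X)) →
      (U : Opens X) ≤ ⨆ i, (V i : Opens X) →
      ∃ c ∈ C U, ∀ i' : c.ι, ∃ i, (c.V i' : Opens X) ≤ (V i : Opens X)) :
    ShB.IsSheaf F ↔ ∀ U, ∀ c ∈ C U, ShB.GluesUniquely F c := by
  refine ⟨fun h U c _ => h c, fun h => HasGluingRefinements.isSheaf hB fun U ι V hV hcov => ?_⟩
  obtain ⟨c, hc, href⟩ := hC U ι V hV hcov
  exact ⟨c, hCU U c hc, fun s hs => h U c hc s fun i j k => hs i j _ _ _, href⟩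

theorem isSheaf_iff_inter (hB : Opens.IsBasis B)
    (hBi : ∀ U ∈ B, ∀ U' ∈ B, ∀ U'' ∈ B, U' ≤ U → U'' ≤ U → U' ⊓ U'' ∈ B)
    (C : ∀ U : B, Set (ShB.Cover B)) (hCU : ∀ U, ∀ c ∈ C U, c.U = U)
    (hC : ∀ (U : B) (ι : Type u) (V : ι → B), (∀ i, (V i : Opens X) ≤ (U : Opens X)) →
      (U : Opens X) ≤ ⨆ i, (V i : Opens X) →
      ∃ c ∈ C U, ∀ i' : c.ι, ∃ i, (c.V i' : Opens X) ≤ (V i : Opens X)) :
    ShB.IsSheaf F ↔ ∀ (U : B), ∀ c ∈ C U, ∀ s : ∀ i, F.obj (c.V i),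
      (∀ i j, F.res (U := c.V i) (V := ⟨(c.V i : Opens X) ⊓ c.V j,
          hBi c.U c.U.2 _ (c.V i).2 _ (c.V j).2 (c.V_le i) (c.V_le j)⟩) inf_le_left (s i) =
        F.res (U := c.V j) (V := ⟨(c.V i : Opens X) ⊓ c.V j,
          hBi c.U c.U.2 _ (c.V i).2 _ (c.V j).2 (c.V_le i) (c.V_le j)⟩) inf_le_right (s j)) →
      ∃! t : F.obj c.U, ∀ i, F.res (c.V_le i) t = s i := by
  refine ⟨fun h U c _ s hs => ?_, fun h => HasGluingRefinements.isSheaf hB fun U ι V hV hcov => ?_⟩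
  · refine (isSheaf_hasGluingRefinements hB h).existsUnique_glue hB c.V c.V_le c.V_cover s fun i j w hi hj => ?_
    have := congrArg (F.res (U := ⟨(c.V i : Opens X) ⊓ c.V j,
      hBi c.U c.U.2 _ (c.V i).2 _ (c.V j).2 (c.V_le i) (c.V_le j)⟩) (V := w) (le_inf hi hj)) (hs i j)
    rwa [F.res_comp, F.res_comp] at this
  · obtain ⟨c, hc, href⟩ := hC U ι V hV hcov
    exact ⟨c, hCU U c hc, fun s hs => h U c hc s fun i j => hs i j _ _ _, href⟩

theorem germ_bijection (hB : Opens.IsBasis B) (hF : ShB.IsSheaf F) (U : B) :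
    Function.Injective (fun (s : F.obj U) (x : (U : Opens X)) => ShB.germ F x.1 x.2 s) ∧
    ∀ f : ∀ x : (U : Opens X), ShB.Stalk F x.1,
      (∃ s : F.obj U, ∀ x, ShB.germ F x.1 x.2 s = f x) ↔
      ∀ x : (U : Opens X), ∃ (V : B) (hxV : x.1 ∈ (V : Opens X))
        (hVU : (V : Opens X) ≤ (U : Opens X)) (σ : F.obj V),
        ∀ (y : X) (hy : y ∈ (V : Opens X)), ShB.germ F y hy σ = f ⟨y, hVU hy⟩ := by
  have H := isSheaf_hasGluingRefinements hB hF
  have heqv : ∀ x : X, Equivalence (ShB.StalkRel F x) := fun x => by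
    refine ⟨fun a => ⟨a.1.1, a.1.2, le_rfl, le_rfl, rfl⟩, ?_, ?_⟩
    · rintro a b ⟨W, hW, ha, hb, e⟩
      exact ⟨W, hW, hb, ha, e.symm⟩
    · rintro a b c ⟨W, hW, ha, hb, e⟩ ⟨W', hW', hb', hc, e'⟩
      obtain ⟨w, hxw, hw⟩ := exists_small_member hB (U := (W : Opens X) ⊓ W') ⟨hW, hW'⟩
      refine ⟨w, hxw, (hw.trans inf_le_left).trans ha, (hw.trans inf_le_right).trans hc, ?_⟩
      rw [← F.res_comp ha (hw.trans inf_le_left), e, F.res_comp, ← F.res_comp hc (hw.trans inf_le_right), ← e',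
        F.res_comp]
  have germ_eq : ∀ {V V' : B} {x : X} (hx : x ∈ (V : Opens X)) (hx' : x ∈ (V' : Opens X)) (s : F.obj V) (t : F.obj V'),
      ShB.germ F x hx s = ShB.germ F x hx' t →
      ∃ (W : B) (_ : x ∈ (W : Opens X)) (h : (W : Opens X) ≤ V) (h' : (W : Opens X) ≤ V'), F.res h s = F.res h' t :=
    fun {V V' x} hx hx' s t h => (heqv x).eqvGen_iff.1 (Quot.eqvGen_exact h)
  have germ_res : ∀ {V W : B} {x : X} (hx : x ∈ (W : Opens X)) (h : (W : Opens X) ≤ V) (s : F.obj V),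
      ShB.germ F x hx (F.res h s) = ShB.germ F x (h hx) s :=
    fun {V W x} hx h s => Quot.sound ⟨W, hx, le_rfl, h, by rw [F.res_comp]⟩
  have ext : ∀ {V : B} (s t : F.obj V), (∀ (x : X) (hx : x ∈ (V : Opens X)),
      ShB.germ F x hx s = ShB.germ F x hx t) → s = t := by
    intro V s t h
    choose W hxW hWV hWV' e using fun x : {x : X // x ∈ (V : Opens X)} => germ_eq x.2 x.2 s t (h x.1 x.2)
    exact H.separated W hWV (fun x hx => Opens.mem_iSup.2 ⟨⟨x, hx⟩, hxW _⟩) e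
  refine ⟨fun s t h => ext s t fun x hx => congrFun h ⟨x, hx⟩, fun f => ⟨?_, fun h => ?_⟩⟩
  · rintro ⟨s, hs⟩ x
    exact ⟨U, x.2, le_rfl, s, fun y hy => hs ⟨y, hy⟩⟩
  · choose V hxV hVU σ hσ using h
    obtain ⟨s, hs, -⟩ := H.existsUnique_glue hB V hVU (fun x hx => Opens.mem_iSup.2 ⟨⟨x, hx⟩, hxV _⟩) σ
      (fun a b w ha hb => ext _ _ fun y hy => by rw [germ_res, germ_res, hσ, hσ])
    refine ⟨s, fun x => ?_⟩
    rw [← hσ x x.1 (hxV x), ← hs x, germ_res]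

/-- Sections of the extension over an open: compatible families over the members inside it. -/
def ExtSections (F : ShB.Pre B) (W : Opens X) : Type u :=
  {s : ∀ U : {U : B // (U : Opens X) ≤ W}, F.obj U.1 //
    ∀ (U V : {U : B // (U : Opens X) ≤ W}) (h : (V.1 : Opens X) ≤ U.1), F.res h (s U) = s V}

/-- The extension of a presheaf on a basis to all opens. -/
def extPresheaf (F : ShB.Pre B) : TopCat.Presheaf (Type u) (TopCat.of X) where
  obj W := ExtSections F W.unop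
  map {W W'} f := TypeCat.ofHom fun s =>
    (⟨fun U => s.1 ⟨U.1, U.2.trans f.unop.le⟩, fun U V h => s.2 ⟨U.1, U.2.trans f.unop.le⟩ ⟨V.1, V.2.trans f.unop.le⟩ h⟩ :
      ExtSections F W'.unop)
  map_id _ := rfl
  map_comp _ _ := rfl

lemma ext_sections_ext {W : Opens X} {s t : ExtSections F W} (h : ∀ U, s.1 U = t.1 U) : s = t :=
  Subtype.ext (funext h)

theorem extPresheaf_isSheaf (hB : Opens.IsBasis B) (hF : ShB.IsSheaf F) :
    TopCat.Presheaf.IsSheaf (extPresheaf F) := by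
  have H := isSheaf_hasGluingRefinements hB hF
  rw [TopCat.Presheaf.isSheaf_iff_isSheafUniqueGluing_types]
  intro ι W sf hsf
  have hcompat : ∀ (a b : ι) (U : B) (ha : (U : Opens X) ≤ W a) (hb : (U : Opens X) ≤ W b),
      (sf a).1 ⟨U, ha⟩ = (sf b).1 ⟨U, hb⟩ := fun a b U ha hb =>
    congrFun (congrArg Subtype.val (hsf a b)) ⟨U, le_inf ha hb⟩
  -- members inside some piece
  have hglue : ∀ U : {U : B // (U : Opens X) ≤ iSup W}, ∃! t : F.obj U.1,
      ∀ p : {p : ι × B // (p.2 : Opens X) ≤ W p.1 ∧ (p.2 : Opens X) ≤ U.1},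
        F.res p.2.2 t = (sf p.1.1).1 ⟨p.1.2, p.2.1⟩ := fun U =>
    H.existsUnique_glue hB (fun p : {p : ι × B // (p.2 : Opens X) ≤ W p.1 ∧ (p.2 : Opens X) ≤ U.1} => p.1.2)
      (fun p => p.2.2) (fun x hx => by
        obtain ⟨a, ha⟩ := Opens.mem_iSup.1 (U.2 hx)
        obtain ⟨b, hxb, hb⟩ := exists_small_member hB (U := (U.1 : Opens X) ⊓ W a) ⟨hx, ha⟩
        exact Opens.mem_iSup.2 ⟨⟨(a, b), hb.trans inf_le_right, hb.trans inf_le_left⟩, hxb⟩)
      (fun p => (sf p.1.1).1 ⟨p.1.2, p.2.1⟩)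
      (fun p q w hp hq => by
        rw [(sf p.1.1).2 ⟨p.1.2, p.2.1⟩ ⟨w, hp.trans p.2.1⟩ hp, (sf q.1.1).2 ⟨q.1.2, q.2.1⟩ ⟨w, hq.trans q.2.1⟩ hq]
        exact hcompat _ _ w _ _)
  choose t ht htu using fun U => (hglue U).exists.elim (fun t h => (⟨t, h, fun t' h' => (hglue U).unique h' h⟩ :
    ∃ t, (∀ p : {p : ι × B // (p.2 : Opens X) ≤ W p.1 ∧ (p.2 : Opens X) ≤ U.1},
        F.res p.2.2 t = (sf p.1.1).1 ⟨p.1.2, p.2.1⟩) ∧ ∀ t', (∀ p : {p : ι × B // (p.2 : Opens X) ≤ W p.1 ∧ (p.2 : Opens X) ≤ U.1},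
        F.res p.2.2 t' = (sf p.1.1).1 ⟨p.1.2, p.2.1⟩) → t' = t))
  refine ⟨(⟨t, fun U V h => htu V _ fun p => ?_⟩ : ExtSections F (iSup W)), fun a => ext_sections_ext fun U => ?_,
    fun s hs => ext_sections_ext fun U => htu U _ fun p => ?_⟩
  · rw [F.res_comp]
    exact ht U ⟨p.1, p.2.1, p.2.2.trans h⟩
  · have := ht ⟨U.1, U.2.trans (le_iSup W a)⟩ ⟨(a, U.1), U.2, le_rfl⟩
    rwa [F.res_id] at this
  · rw [s.2 U ⟨p.1.2, p.2.2.trans U.2⟩ p.2.2]
    exact congrFun (congrArg Subtype.val (hs p.1.1)) ⟨p.1.2, p.2.1⟩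

/-- The extension restricts to the original presheaf. -/
def extIso (F : ShB.Pre B) : ShB.Iso (ShB.restrict B (extPresheaf F)) F where
  hom :=
    { app := fun U s => (s : ExtSections F (U : Opens X)).1 ⟨U, le_rfl⟩
      natural := fun {U V} h s => (s : ExtSections F (U : Opens X)).2 ⟨U, le_rfl⟩ ⟨V, h⟩ h }
  inv :=
    { app := fun U t => (⟨fun V => F.res V.2 t, fun V W h => by rw [F.res_comp]⟩ : ExtSections F (U : Opens X))
      natural := fun {U V} h t => ext_sections_ext fun W => (F.res_comp h W.2 t).symm }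
  hom_inv U s := ext_sections_ext fun V => (s : ExtSections F (U : Opens X)).2 ⟨U, le_rfl⟩ V V.2
  inv_hom U t := F.res_id U t

end Groth.SitesTopoi.Bas

namespace Groth.SitesTopoi

universe u

theorem existsUnique_hom_of_basis_maps {X Y : TopCat.{u}} (f : X ⟶ Y) (F : X.Sheaf (Type u)) (G : Y.Sheaf (Type u))
    {BX : Set (Opens X)} (hBX : Opens.IsBasis BX) {BY : Set (Opens Y)} (hBY : Opens.IsBasis BY)
    (φ : ∀ (V : BY) (U : BX), (U : Opens X) ≤ (Opens.map f).obj V →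
      (G.1.obj (op (V : Opens Y)) → F.1.obj (op (U : Opens X))))
    (hφ : ∀ (V V' : BY) (U U' : BX) (hUV : (U : Opens X) ≤ (Opens.map f).obj V)
      (hU'V' : (U' : Opens X) ≤ (Opens.map f).obj V') (hV : (V' : Opens Y) ≤ V) (hU : (U' : Opens X) ≤ U)
      (s : G.1.obj (op (V : Opens Y))), res F.1 hU (φ V U hUV s) = φ V' U' hU'V' (res G.1 hV s)) :
    ∃! ψ : G.1 ⟶ (Opens.map f).op ⋙ F.1,
      ∀ (V : BY) (U : BX) (hUV : (U : Opens X) ≤ (Opens.map f).obj V) (s : G.1.obj (op (V : Opens Y))),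
        res F.1 hUV (ψ.app (op (V : Opens Y)) s) = φ V U hUV s := by
  let P : Opens Y → Type u := fun W => {p : BY × BX // (p.1 : Opens Y) ≤ W ∧ (p.2 : Opens X) ≤ (Opens.map f).obj p.1}
  have hP : ∀ (W : Opens Y) (p : P W), (p.1.2 : Opens X) ≤ (Opens.map f).obj W :=
    fun W p => p.2.2.trans ((Opens.map f).map (homOfLE p.2.1)).le
  have hcov : ∀ W : Opens Y, (Opens.map f).obj W ≤ ⨆ p : P W, (p.1.2 : Opens X) := by
    intro W x hx
    obtain ⟨V, hV, hxV, hVW⟩ := Opens.isBasis_iff_nbhd.1 hBY (show f x ∈ W from hx)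
    obtain ⟨U, hU, hxU, hUV⟩ := Opens.isBasis_iff_nbhd.1 hBX (show x ∈ (Opens.map f).obj V from hxV)
    exact Opens.mem_iSup.2 ⟨⟨(⟨V, hV⟩, ⟨U, hU⟩), hVW, hUV⟩, hxU⟩
  have hglue : ∀ (W : Opens Y) (s : G.1.obj (op W)), ∃! t : F.1.obj (op ((Opens.map f).obj W)),
      ∀ p : P W, res F.1 (hP W p) t = φ p.1.1 p.1.2 p.2.2 (res G.1 p.2.1 s) := by
    intro W s
    refine sheaf_glue F (fun p : P W => (p.1.2 : Opens X)) (hP W) (hcov W) _ fun p q => ?_
    let Q : Type u := {r : BY × BX // ((r.1 : Opens Y) ≤ p.1.1 ∧ (r.1 : Opens Y) ≤ q.1.1) ∧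
      ((r.2 : Opens X) ≤ p.1.2 ∧ (r.2 : Opens X) ≤ q.1.2) ∧ (r.2 : Opens X) ≤ (Opens.map f).obj r.1}
    refine sheaf_ext F (fun r : Q => (r.1.2 : Opens X)) (fun r => le_inf r.2.2.1.1 r.2.2.1.2) ?_ fun r => ?_
    · intro x hx
      obtain ⟨V, hV, hxV, hVW⟩ := Opens.isBasis_iff_nbhd.1 hBY
        (show f x ∈ (p.1.1 : Opens Y) ⊓ q.1.1 from ⟨p.2.2 hx.1, q.2.2 hx.2⟩)
      obtain ⟨U, hU, hxU, hUV⟩ := Opens.isBasis_iff_nbhd.1 hBX
        (show x ∈ (Opens.map f).obj V ⊓ ((p.1.2 : Opens X) ⊓ q.1.2) from ⟨hxV, hx⟩)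
      exact Opens.mem_iSup.2 ⟨⟨(⟨V, hV⟩, ⟨U, hU⟩), ⟨hVW.trans inf_le_left, hVW.trans inf_le_right⟩,
        ⟨hUV.trans (inf_le_right.trans inf_le_left), hUV.trans (inf_le_right.trans inf_le_right)⟩,
        hUV.trans inf_le_left⟩, hxU⟩
    · rw [res_res, res_res, hφ p.1.1 r.1.1 p.1.2 r.1.2 p.2.2 r.2.2.2 r.2.1.1 r.2.2.1.1,
        hφ q.1.1 r.1.1 q.1.2 r.1.2 q.2.2 r.2.2.2 r.2.1.2 r.2.2.1.2, res_res, res_res]
  choose t ht htu using fun W s => (hglue W s).exists.elim (fun t h =>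
    (⟨t, h, fun t' h' => (hglue W s).unique h' h⟩ : ∃ t, (∀ p : P W, res F.1 (hP W p) t =
      φ p.1.1 p.1.2 p.2.2 (res G.1 p.2.1 s)) ∧ ∀ t', (∀ p : P W, res F.1 (hP W p) t' =
      φ p.1.1 p.1.2 p.2.2 (res G.1 p.2.1 s)) → t' = t))
  refine ⟨{ app := fun W => TypeCat.ofHom (t W.unop), naturality := ?_ }, fun V U hUV s => ?_, fun ψ hψ => ?_⟩
  · intro W W' g
    ext s
    change t W'.unop (res G.1 g.unop.le s) = res F.1 ((Opens.map f).map g.unop).le (t W.unop s)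
    refine (htu _ _ _ fun p => ?_).symm
    rw [res_res, res_res]
    exact ht W.unop s ⟨p.1, p.2.1.trans g.unop.le, p.2.2⟩
  · have := ht (V : Opens Y) s ⟨(V, U), le_rfl, hUV⟩
    rwa [res_self] at this
  · ext W s
    refine htu W.unop s _ fun p => ?_
    have h1 := hψ p.1.1 p.1.2 p.2.2 (res G.1 p.2.1 s)
    rw [app_res ψ p.2.1 s] at h1
    rw [← h1]
    exact (res_res F.1 ((Opens.map f).map (homOfLE p.2.1)).le p.2.2 (ψ.app (op W.unop) s)).symm

end Groth.SitesTopoi
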