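import Groth.Agent.DAlg.ExtZeroExact
import Groth.Agent.SitesTopoi.Mod.Balanced
import Mathlib.Algebra.Category.ModuleCat.Sheaf.Abelian
import Mathlib.CategoryTheory.Sites.Abelian

/-!
Extension by zero for sheaves of modules over a sheaf of rings.
-/

universe u

open CategoryTheory CategoryTheory.Limits Opposite

set_option backward.defeqAttrib.useBackward true
set_option backward.isDefEq.respectTransparency false
set_option synthInstance.maxHeartbeats 400000
set_option maxHeartbeats 1000000

namespace Groth.SitesTopoi.ExtZeroRing

open Groth.DAlg.ExtZeroExact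

variable {C : Type u} [SmallCategory C] {J : GrothendieckTopology C} (A : Sheaf J RingCat.{u}) (U : C)

/-- Extension by zero as a sheafified direct sum. -/
noncomputable def sObj (G : SheafOfModules.{u} (A.over U)) : SheafOfModules.{u} A :=
  (PresheafOfModules.sheafification.{u} (𝟙 A.obj)).obj (obj (R := A.obj) (U := U) G.val)

/-- Morphisms out of the sheafified direct sum. -/
noncomputable def sHomEquiv (G : SheafOfModules.{u} (A.over U)) (M : SheafOfModules.{u} A) :
    (sObj A U G ⟶ M) ≃ (G ⟶ (SheafOfModules.overFunctor.{u} A U).obj M) :=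
  (((PresheafOfModules.sheafificationAdjunction.{u} (𝟙 A.obj)).homEquiv _ M).trans
    (homEquiv (R := A.obj) (U := U) G.val M.val)).trans
    ((SheafOfModules.fullyFaithfulForget (A.over U)).homEquiv (X := G)
      (Y := (SheafOfModules.overFunctor.{u} A U).obj M)).symm

/-- Functoriality. -/
noncomputable def sFunctor : SheafOfModules.{u} (A.over U) ⥤ SheafOfModules.{u} A :=
  Adjunction.leftAdjointOfEquiv (G := SheafOfModules.overFunctor.{u} A U) (F_obj := sObj A U) (sHomEquiv A U)
    fun G M M' q h => by
      refine (SheafOfModules.forget _).map_injective ?_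
      show homEquiv (R := A.obj) (U := U) G.val M'.val _ = homEquiv (R := A.obj) (U := U) G.val M.val _ ≫ _
      rw [Adjunction.homEquiv_naturality_right]
      exact homEquiv_naturality_right _ _ _ _

/-- The adjunction with restriction. -/
noncomputable def sAdj : sFunctor A U ⊣ SheafOfModules.overFunctor.{u} A U := Adjunction.adjunctionOfEquivLeft _ _

lemma sFunctor_map {G G' : SheafOfModules.{u} (A.over U)} (f : G ⟶ G') :
    (sFunctor A U).map f = (PresheafOfModules.sheafification.{u} (𝟙 A.obj)).map (map (R := A.obj) (U := U) f.val) := by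
  show (sHomEquiv A U G _).symm (f ≫ sHomEquiv A U G' _ (𝟙 _)) = _
  refine (sHomEquiv A U G _).injective ?_
  rw [Equiv.apply_symm_apply]
  refine (SheafOfModules.forget _).map_injective ?_
  show f.val ≫ homEquiv (R := A.obj) (U := U) G'.val _ _ = homEquiv (R := A.obj) (U := U) G.val _ _
  apply (homEquiv (R := A.obj) (U := U) G.val _).symm.injective
  rw [homEquiv_symm_naturality_left, Equiv.symm_apply_apply, Equiv.symm_apply_apply, ← Adjunction.homEquiv_naturality_left]
  exact congrArg _ (Category.comp_id _)

lemma mono_sFunctor_map {G G' : SheafOfModules.{u} (A.over U)} (f : G ⟶ G') [Mono f] :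
    Mono ((sFunctor A U).map f) := by
  have : Mono f.val := inferInstanceAs (Mono ((SheafOfModules.forget _).map f))
  have := mono_map (R := A.obj) (U := U) f.val
  rw [sFunctor_map]
  infer_instance

/-- The component inclusion into the direct sum is injective. -/
lemma inc_injective (G : PresheafOfModules.{u} ((Over.forget U).op ⋙ A.obj)) (W : Cᵒᵖ) (φ : W.unop ⟶ U) :
    Function.Injective (inc G W φ) :=
  (ModuleCat.mono_iff_injective _).1 (inferInstance : Mono (Sigma.ι (summand G W) φ))

lemma eq_zero_of_sFunctor_map {G G' : SheafOfModules.{u} (A.over U)} (f : G ⟶ G')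
    (hf : (PresheafOfModules.sheafification.{u} (𝟙 A.obj)).map (map (R := A.obj) (U := U) f.val) = 0) : f = 0 := by
  refine (SheafOfModules.forget _).map_injective (PresheafOfModules.hom_ext fun W => ?_)
  ext x
  let η := (PresheafOfModules.sheafificationAdjunction.{u} (𝟙 A.obj)).unit.app (obj (R := A.obj) (U := U) G'.val)
  let y := inc G'.val (op W.unop.left) W.unop.hom (f.val.app W x)
  have h0 : η.app (op W.unop.left) y = η.app (op W.unop.left) 0 := by
    have h := congrArg (fun φ => φ.app (op W.unop.left) (inc G.val (op W.unop.left) W.unop.hom x))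
      ((PresheafOfModules.sheafificationAdjunction.{u} (𝟙 A.obj)).unit.naturality (map (R := A.obj) (U := U) f.val))
    dsimp only [Functor.id_map, Functor.comp_map] at h
    rw [hf] at h
    refine Eq.trans ?_ (map_zero (η.app (op W.unop.left)).hom).symm
    refine Eq.trans ?_ (h.trans rfl)
    exact congrArg (η.app (op W.unop.left))
      (congrArg (fun m => m x) (congrArg (fun m => m.hom.toFun)
        (Limits.Sigma.ι_map (comp (R := A.obj) f.val (op W.unop.left)) W.unop.hom))).symm
  have hS := Presheaf.equalizerSieve_mem J (CategoryTheory.toSheafify J (obj (R := A.obj) (U := U) G'.val).presheaf)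
    (X := op W.unop.left) y 0 h0
  have hsep : Presieve.IsSeparatedFor (G'.val.presheaf ⋙ forget AddCommGrpCat.{u})
      (((Sieve.overEquiv W.unop).symm _ : Sieve W.unop) : Presieve W.unop) :=
    ((isSheaf_iff_isSheaf_of_type _ _).1
      (Presheaf.isSheaf_comp_of_isSheaf (J.over U) G'.val.presheaf (forget AddCommGrpCat.{u}) G'.isSheaf) _
      ((GrothendieckTopology.mem_over_iff J _).2 (by simpa using hS))).isSeparatedFor
  refine hsep.ext fun V g hg => ?_
  have hg' := (Sieve.overEquiv_symm_iff _ g).1 hg
  change G'.val.map g.op (f.val.app W x) = G'.val.map g.op 0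
  rw [map_zero]
  have h1 : (obj (R := A.obj) (U := U) G'.val).map g.left.op y = 0 :=
    hg'.trans (map_zero ((obj (R := A.obj) (U := U) G'.val).map g.left.op).hom)
  refine inc_injective A U G'.val (op V.left) V.hom (Eq.trans ?_ (h1.trans (map_zero _).symm))
  refine Eq.symm ((objMap_inc G'.val g.left.op W.unop.hom (f.val.app W x)).trans ?_)
  exact inc_map (W := op V.left) (X := W.unop) G'.val (φ := g.left ≫ W.unop.hom) (φ' := V.hom) (Over.w g) (Over.homMk g.left : Over.mk (g.left ≫ W.unop.hom) ⟶ W.unop) g rfl _

lemma extension_exact_faithful (L : SheafOfModules.{u} (A.over U) ⥤ SheafOfModules.{u} A)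
    (adj : L ⊣ SheafOfModules.overFunctor.{u} A U) :
    PreservesFiniteLimits L ∧ PreservesFiniteColimits L ∧ L.Faithful := by
  have e := (sAdj A U).leftAdjointUniq adj
  have hc := (sAdj A U).leftAdjoint_preservesColimits
  have hfc : PreservesFiniteColimits (sFunctor A U) := PreservesColimitsOfSize.preservesFiniteColimits.{u, u} _
  have := Balanced.additive_of_rightExact (sFunctor A U)
  have hl : PreservesFiniteLimits (sFunctor A U) :=
    (Functor.preservesFiniteLimits_iff_forall_exact_map_and_mono _).2 fun S hS => by
      refine ⟨((Functor.preservesFiniteColimits_iff_forall_exact_map_and_epi _).1 hfc S hS).1, ?_⟩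
      have := hS.mono_f
      exact mono_sFunctor_map A U S.f
  have hF : (sFunctor A U).Faithful := ⟨fun {G G'} f g h => by
    rw [← sub_eq_zero]
    refine eq_zero_of_sFunctor_map A U (f - g) ?_
    rw [← sFunctor_map, Functor.map_sub, h, sub_self]⟩
  exact ⟨preservesFiniteLimits_of_natIso e, preservesFiniteColimits_of_natIso e, Functor.Faithful.of_iso e⟩

end Groth.SitesTopoi.ExtZeroRing
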