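import Mathlib.Topology.Category.TopCommRingCat
import Mathlib.Topology.Category.TopCat.Limits.Basic
import Mathlib.Algebra.Category.Ring.Limits
import Mathlib.Algebra.Category.Ring.Colimits
import Mathlib.CategoryTheory.Limits.Preserves.Basic

/-!
Limits and colimits of topological commutative rings.
-/

open CategoryTheory CategoryTheory.Limits TopologicalSpace

namespace Groth.SitesTopoi

universe u

lemma isTopologicalRing_sInf {R : Type u} [CommRing R] (S : Set (TopologicalSpace R))
    (h : ∀ t ∈ S, @IsTopologicalRing R t _) : @IsTopologicalRing R (sInf S) _ := by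
  let T : TopologicalSpace R := sInf S
  have hprod : ∀ t ∈ S, @instTopologicalSpaceProd R R T T ≤ @instTopologicalSpaceProd R R t t :=
    fun t ht => inf_le_inf (induced_mono (sInf_le ht)) (induced_mono (sInf_le ht))
  have hadd : Continuous fun p : R × R => p.1 + p.2 := continuous_sInf_rng.2 fun t ht =>
    continuous_le_dom (hprod t ht) (have := h t ht; @continuous_add R t _ _)
  have hmul : Continuous fun p : R × R => p.1 * p.2 := continuous_sInf_rng.2 fun t ht =>
    continuous_le_dom (hprod t ht) (have := h t ht; @continuous_mul R t _ _)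
  have hneg : Continuous fun x : R => -x := continuous_sInf_rng.2 fun t ht =>
    continuous_le_dom (sInf_le ht) (have := h t ht; @continuous_neg R t _ _)
  exact { continuous_add := hadd, continuous_mul := hmul, continuous_neg := hneg }

lemma isTopologicalRing_induced {R S : Type u} [CommRing R] [CommRing S] [TopologicalSpace S]
    [IsTopologicalRing S] (f : R →+* S) : @IsTopologicalRing R (induced f inferInstance) _ := by
  let : TopologicalSpace R := induced f inferInstance
  have hf : Continuous f := continuous_induced_dom
  have hadd : Continuous fun p : R × R => p.1 + p.2 := by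
    rw [continuous_induced_rng]; simp only [Function.comp_def, map_add]; fun_prop
  have hmul : Continuous fun p : R × R => p.1 * p.2 := by
    rw [continuous_induced_rng]; simp only [Function.comp_def, map_mul]; fun_prop
  have hneg : Continuous fun x : R => -x := by
    rw [continuous_induced_rng]; simp only [Function.comp_def, map_neg]; fun_prop
  exact { continuous_add := hadd, continuous_mul := hmul, continuous_neg := hneg }

variable {J : Type u} [SmallCategory J] (F : J ⥤ TopCommRingCat.{u})

/-- The underlying diagram of rings. -/
abbrev ringDiagram : J ⥤ CommRingCat.{u} := F ⋙ forget₂ TopCommRingCat.{u} CommRingCat.{u}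

/-- The projection from the limit ring, as a ring hom into the topological ring. -/
noncomputable def limProj (j : J) : (limit (ringDiagram F) : CommRingCat.{u}) →+* F.obj j :=
  (limit.π (ringDiagram F) j).hom

/-- The topology on the limit ring. -/
noncomputable def limTopology : TopologicalSpace (limit (ringDiagram F) : CommRingCat.{u}) :=
  sInf (Set.range fun j => induced (limProj F j) inferInstance)

lemma isTopologicalRing_lim : @IsTopologicalRing _ (limTopology F) _ :=
  isTopologicalRing_sInf _ (by rintro _ ⟨j, rfl⟩; exact isTopologicalRing_induced (limProj F j))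

/-- The limit cone. -/
noncomputable def topRingCone : Cone F where
  pt :=
    letI := limTopology F; haveI := isTopologicalRing_lim F
    TopCommRingCat.of (limit (ringDiagram F) : CommRingCat.{u})
  π :=
    { app := fun j => ⟨limProj F j, continuous_iff_le_induced.2 (sInf_le ⟨j, rfl⟩)⟩
      naturality := fun i j f => by
        apply Subtype.ext
        exact congrArg CommRingCat.Hom.hom ((limit.cone (ringDiagram F)).π.naturality f) }

/-- The limit cone is a limit. -/
noncomputable def topRingConeIsLimit : IsLimit (topRingCone F) where
  lift s := ⟨(limit.lift (ringDiagram F) ((forget₂ TopCommRingCat.{u} CommRingCat.{u}).mapCone s)).hom, by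
    refine continuous_sInf_rng.2 ?_
    rintro _ ⟨j, rfl⟩
    refine continuous_induced_rng.2 ?_
    have h : ∀ x, limProj F j ((limit.lift (ringDiagram F)
        ((forget₂ TopCommRingCat.{u} CommRingCat.{u}).mapCone s)).hom x) = (s.π.app j).1 x := fun x =>
      congrArg (fun m => m.hom x) (limit.lift_π ((forget₂ TopCommRingCat.{u} CommRingCat.{u}).mapCone s) j)
    exact (s.π.app j).2.congr fun x => (h x).symm⟩
  fac s j := by
    apply Subtype.ext
    exact congrArg CommRingCat.Hom.hom
      (limit.lift_π ((forget₂ TopCommRingCat.{u} CommRingCat.{u}).mapCone s) j)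
  uniq s m h := by
    apply Subtype.ext
    refine congrArg CommRingCat.Hom.hom (?_ : CommRingCat.ofHom m.1 = _)
    refine (limit.hom_ext fun j => ?_ : (CommRingCat.ofHom m.1 : CommRingCat.of s.pt ⟶ limit (ringDiagram F)) = _)
    refine Eq.trans ?_ (limit.lift_π ((forget₂ TopCommRingCat.{u} CommRingCat.{u}).mapCone s) j).symm
    apply CommRingCat.hom_ext
    exact congrArg Subtype.val (h j)

theorem topCommRingCat_limits :
    HasLimits TopCommRingCat.{u} ∧
    PreservesLimits (forget₂ TopCommRingCat.{u} TopCat.{u}) ∧
    PreservesLimits (forget₂ TopCommRingCat.{u} CommRingCat.{u}) := by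
  refine ⟨⟨fun J _ => ⟨fun F => ⟨⟨⟨_, topRingConeIsLimit F⟩⟩⟩⟩⟩, ⟨fun {J} _ => ⟨fun {F} => ?_⟩⟩,
    ⟨fun {J} _ => ⟨fun {F} => ?_⟩⟩⟩
  · refine preservesLimit_of_preserves_limit_cone (topRingConeIsLimit F) ?_
    have hset : IsLimit ((forget CommRingCat.{u}).mapCone (limit.cone (ringDiagram F))) :=
      isLimitOfPreserves (forget CommRingCat.{u}) (limit.isLimit _)
    have := TopCat.nonempty_isLimit_iff_eq_induced
      ((forget₂ TopCommRingCat.{u} TopCat.{u}).mapCone (topRingCone F)) hset
    exact (this.2 sInf_range).some
  · refine preservesLimit_of_preserves_limit_cone (topRingConeIsLimit F) ?_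
    exact IsLimit.ofIsoLimit (limit.isLimit (ringDiagram F)) (Cone.ext (Iso.refl _))

/-- The structure map into the colimit ring. -/
noncomputable def colimInj (j : J) : F.obj j →+* (colimit (ringDiagram F) : CommRingCat.{u}) :=
  (colimit.ι (ringDiagram F) j).hom

/-- The topology on the colimit ring: the finest ring topology making the structure maps continuous. -/
noncomputable def colimTopology : TopologicalSpace (colimit (ringDiagram F) : CommRingCat.{u}) :=
  sInf {t | @IsTopologicalRing _ t _ ∧ ∀ j, @Continuous _ _ _ t (colimInj F j)}

lemma isTopologicalRing_colim : @IsTopologicalRing _ (colimTopology F) _ :=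
  isTopologicalRing_sInf _ fun _ h => h.1

/-- The colimit cocone. -/
noncomputable def topRingCocone : Cocone F where
  pt :=
    letI := colimTopology F; haveI := isTopologicalRing_colim F
    TopCommRingCat.of (colimit (ringDiagram F) : CommRingCat.{u})
  ι :=
    { app := fun j => ⟨colimInj F j, continuous_sInf_rng.2 fun _ h => h.2 j⟩
      naturality := fun i j f => by
        apply Subtype.ext
        exact congrArg CommRingCat.Hom.hom ((colimit.cocone (ringDiagram F)).ι.naturality f) }

/-- The colimit cocone is a colimit. -/
noncomputable def topRingCoconeIsColimit : IsColimit (topRingCocone F) where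
  desc s := ⟨(colimit.desc (ringDiagram F) ((forget₂ TopCommRingCat.{u} CommRingCat.{u}).mapCocone s)).hom, by
    refine continuous_iff_le_induced.2 (sInf_le ⟨isTopologicalRing_induced (S := s.pt)
      (colimit.desc (ringDiagram F) ((forget₂ TopCommRingCat.{u} CommRingCat.{u}).mapCocone s)).hom, fun j => ?_⟩)
    refine continuous_induced_rng.2 ?_
    have h : ∀ x, (colimit.desc (ringDiagram F) ((forget₂ TopCommRingCat.{u} CommRingCat.{u}).mapCocone s)).hom
        (colimInj F j x) = (s.ι.app j).1 x := fun x =>
      congrArg (fun m => m.hom x) (colimit.ι_desc ((forget₂ TopCommRingCat.{u} CommRingCat.{u}).mapCocone s) j)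
    exact (s.ι.app j).2.congr fun x => (h x).symm⟩
  fac s j := by
    apply Subtype.ext
    exact congrArg CommRingCat.Hom.hom
      (colimit.ι_desc ((forget₂ TopCommRingCat.{u} CommRingCat.{u}).mapCocone s) j)
  uniq s m h := by
    apply Subtype.ext
    refine congrArg CommRingCat.Hom.hom (?_ : CommRingCat.ofHom m.1 = _)
    refine (colimit.hom_ext fun j => ?_ : (CommRingCat.ofHom m.1 : colimit (ringDiagram F) ⟶ CommRingCat.of s.pt) = _)
    refine Eq.trans ?_ (colimit.ι_desc ((forget₂ TopCommRingCat.{u} CommRingCat.{u}).mapCocone s) j).symm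
    apply CommRingCat.hom_ext
    exact congrArg Subtype.val (h j)

theorem topCommRingCat_colimits :
    HasColimits TopCommRingCat.{u} ∧ PreservesColimits (forget₂ TopCommRingCat.{u} CommRingCat.{u}) :=
  ⟨⟨fun J _ => ⟨fun F => ⟨⟨⟨_, topRingCoconeIsColimit F⟩⟩⟩⟩⟩,
    ⟨fun {J} _ => ⟨fun {F} => preservesColimit_of_preserves_colimit_cocone (topRingCoconeIsColimit F)
      (IsColimit.ofIsoColimit (colimit.isColimit (ringDiagram F)) (Cocone.ext (Iso.refl _)))⟩⟩⟩

end Groth.SitesTopoi
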