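import Mathlib.Topology.Separation.Regular
import Mathlib.Topology.ShrinkingLemma
import Mathlib.Topology.Compactness.LocallyCompact

/-!
Shrinking finitely many neighbourhoods of compact subsets of a relatively Hausdorff compact set.
-/

open Set Topology

namespace Groth.SitesTopoi

universe u
variable {X : Type u} [TopologicalSpace X]

/-- Distinct points of `Z` have disjoint neighbourhoods in the ambient space. -/
def RelSep (Z : Set X) : Prop :=
  ∀ z ∈ Z, ∀ z' ∈ Z, z ≠ z' → ∃ A B : Set X, IsOpen A ∧ IsOpen B ∧ z ∈ A ∧ z' ∈ B ∧ Disjoint A B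

variable {Z : Set X}

lemma RelSep.separatedNhds (hZ : RelSep Z) {K L : Set X} (hK : IsCompact K) (hL : IsCompact L)
    (hKZ : K ⊆ Z) (hLZ : L ⊆ Z) (hd : Disjoint K L) : SeparatedNhds K L := by
  classical
  have hpt : ∀ a ∈ K, SeparatedNhds ({a} : Set X) L := by
    intro a ha
    refine hL.induction_on (p := fun L => SeparatedNhds ({a} : Set X) L) (SeparatedNhds.empty_right _)
      (fun s t hst h => h.mono subset_rfl hst) (fun s t hs ht => hs.union_right ht) ?_
    intro b hb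
    obtain ⟨A, B, hA, hB, haA, hbB, hAB⟩ :=
      hZ a (hKZ ha) b (hLZ hb) (fun e => Set.disjoint_left.1 hd ha (e ▸ hb))
    exact ⟨B, mem_nhdsWithin_of_mem_nhds (hB.mem_nhds hbB),
      ⟨A, B, hA, hB, singleton_subset_iff.2 haA, subset_rfl, hAB⟩⟩
  refine hK.induction_on (p := fun K => SeparatedNhds K L) (SeparatedNhds.empty_left _)
    (fun s t hst h => h.mono hst subset_rfl) (fun s t hs ht => hs.union_left ht) ?_
  intro a ha
  obtain ⟨A, B, hA, hB, haA, hLB, hAB⟩ := hpt a ha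
  exact ⟨A, mem_nhdsWithin_of_mem_nhds (hA.mem_nhds (singleton_subset_iff.1 haA)),
    ⟨A, B, hA, hB, subset_rfl, hLB, hAB⟩⟩

lemma RelSep.exists_open_iInter_eq_empty (hZ : RelSep Z) {m : ℕ} (K : Fin (m + 1) → Set X)
    (hK : ∀ l, IsCompact (K l)) (hKZ : ∀ l, K l ⊆ Z) (he : ⋂ l, K l = ∅) :
    ∃ V : Fin (m + 1) → Set X, (∀ l, IsOpen (V l)) ∧ (∀ l, K l ⊆ V l) ∧ ⋂ l, V l = ∅ := by
  classical
  suffices H : ∀ T : Set X, T ⊆ K 0 → IsCompact T →
      ∃ V : Fin (m + 1) → Set X, (∀ l, IsOpen (V l)) ∧ T ⊆ V 0 ∧ (∀ l, l ≠ 0 → K l ⊆ V l) ∧ ⋂ l, V l = ∅ by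
    obtain ⟨V, h1, h2, h3, h4⟩ := H (K 0) subset_rfl (hK 0)
    exact ⟨V, h1, fun l => if h : l = 0 then h ▸ h2 else h3 l h, h4⟩
  intro T hT hTc
  refine (hTc.induction_on (p := fun S => ∃ V : Fin (m + 1) → Set X,
      (∀ l, IsOpen (V l)) ∧ S ⊆ V 0 ∧ (∀ l, l ≠ 0 → K l ⊆ V l) ∧ ⋂ l, V l = ∅) ?_ ?_ ?_ ?_)
  · refine ⟨Function.update (fun _ => univ) 0 ∅, fun l => ?_, empty_subset _,
      fun l hl => by simp [Function.update_of_ne hl],
      subset_empty_iff.1 ((iInter_subset _ 0).trans_eq (Function.update_self ..))⟩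
    by_cases h : l = 0
    · subst h; simp
    · simp [Function.update_of_ne h]
  · rintro s t hst ⟨V, h1, h2, h3, h4⟩
    exact ⟨V, h1, hst.trans h2, h3, h4⟩
  · rintro s t ⟨V, h1, h2, h3, h4⟩ ⟨W, g1, g2, g3, g4⟩
    refine ⟨fun l => if l = 0 then V l ∪ W l else V l ∩ W l, fun l => ?_, ?_, fun l hl => ?_, ?_⟩
    · beta_reduce; split
      exacts [(h1 l).union (g1 l), (h1 l).inter (g1 l)]
    · simp only [if_true]; exact union_subset_union h2 g2
    · simp only [if_neg hl]; exact subset_inter (h3 l hl) (g3 l hl)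
    · rw [eq_empty_iff_forall_notMem]
      intro y hy
      rw [mem_iInter] at hy
      have h0 : y ∈ V 0 ∪ W 0 := by simpa using hy 0
      rcases h0 with h | h
      · refine eq_empty_iff_forall_notMem.1 h4 y (mem_iInter.2 fun l => ?_)
        by_cases hl : l = 0
        · exact hl ▸ h
        · have := hy l; simp only [if_neg hl] at this; exact this.1
      · refine eq_empty_iff_forall_notMem.1 g4 y (mem_iInter.2 fun l => ?_)
        by_cases hl : l = 0
        · exact hl ▸ h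
        · have := hy l; simp only [if_neg hl] at this; exact this.2
  · intro a ha
    have ha0 : a ∈ K 0 := hT ha
    obtain ⟨l, hl⟩ := not_forall.1 fun h => eq_empty_iff_forall_notMem.1 he a (mem_iInter.2 h)
    obtain ⟨A, B, hA, hB, haA, hlB, hAB⟩ := hZ.separatedNhds isCompact_singleton (hK l)
      (singleton_subset_iff.2 (hKZ 0 ha0)) (hKZ l) (disjoint_singleton_left.2 hl)
    have hl0 : l ≠ 0 := fun e => hl (e ▸ ha0)
    refine ⟨A, mem_nhdsWithin_of_mem_nhds (hA.mem_nhds (singleton_subset_iff.1 haA)),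
      Function.update (Function.update (fun _ => univ) 0 A) l B, fun k => ?_, ?_, fun k hk => ?_, ?_⟩
    · by_cases h : k = l
      · subst h; simpa using hB
      · rw [Function.update_of_ne h]
        by_cases h' : k = 0
        · subst h'; simpa using hA
        · simp [Function.update_of_ne h']
    · rw [Function.update_of_ne hl0.symm, Function.update_self]
    · by_cases h : k = l
      · subst h; simpa using hlB
      · simp [Function.update_of_ne h, Function.update_of_ne hk]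
    · rw [eq_empty_iff_forall_notMem]
      intro y hy
      rw [mem_iInter] at hy
      have h1 := hy l
      have h2 := hy 0
      rw [Function.update_self] at h1
      rw [Function.update_of_ne hl0.symm, Function.update_self] at h2
      exact disjoint_left.1 hAB h2 h1

/-- Opens around finitely many compact subsets whose intersections stay in prescribed opens. -/
lemma RelSep.exists_shrink (hZ : RelSep Z) {ι : Type*} [Finite ι] (K : ι → Set X)
    (hK : ∀ i, IsCompact (K i)) (hKZ : ∀ i, K i ⊆ Z) {p : ℕ}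
    (W : (Fin (p + 1) → ι) → Set X) (hW : ∀ t, IsOpen (W t)) (hKW : ∀ t, (⋂ l, K (t l)) ⊆ W t) :
    ∃ V : ι → Set X, (∀ i, IsOpen (V i)) ∧ (∀ i, K i ⊆ V i) ∧ ∀ t, (⋂ l, V (t l)) ⊆ W t := by
  have := fun t : Fin (p + 1) → ι => hZ.exists_open_iInter_eq_empty (fun l => K (t l) \ W t)
    (fun l => (hK _).diff (hW t)) (fun l => sdiff_subset.trans (hKZ _))
    (eq_empty_iff_forall_notMem.2 fun y hy =>
      (mem_iInter.1 hy 0).2 (hKW t (mem_iInter.2 fun l => (mem_iInter.1 hy l).1)))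
  choose V hV hKV hVe using this
  refine ⟨fun i => ⋂ q : {q : (Fin (p + 1) → ι) × Fin (p + 1) // q.1 q.2 = i}, (V q.1.1 q.1.2 ∪ W q.1.1),
    fun i => isOpen_iInter_of_finite fun q => (hV _ _).union (hW _), fun i x hx => mem_iInter.2 fun q => ?_,
    fun t x hx => ?_⟩
  · by_cases h : x ∈ W q.1.1
    · exact Or.inr h
    · refine Or.inl (hKV _ _ ⟨?_, h⟩)
      rw [q.2]; exact hx
  · by_contra h
    refine eq_empty_iff_forall_notMem.1 (hVe t) x (mem_iInter.2 fun l => ?_)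
    exact (mem_iInter.1 (mem_iInter.1 hx l) ⟨(t, l), rfl⟩).resolve_right h

/-- A finite shrinking of an open covering of a compact `Z` by compact subsets of `Z`. -/
lemma RelSep.exists_compact_shrink (hZ : RelSep Z) (hc : IsCompact Z) {ι : Type*} (U : ι → Set X)
    (hU : ∀ i, IsOpen (U i)) (hcov : Z ⊆ ⋃ i, U i) :
    ∃ (F : Finset ι) (K : F → Set X), (∀ i, IsCompact (K i)) ∧ (∀ i, K i ⊆ Z ∩ U i) ∧ Z ⊆ ⋃ i, K i := by
  classical
  have : CompactSpace Z := isCompact_iff_compactSpace.1 hc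
  have : T2Space Z := ⟨fun a b hab => by
    obtain ⟨A, B, hA, hB, ha, hb, hd⟩ := hZ a a.2 b b.2 (Subtype.coe_injective.ne hab)
    exact ⟨_, _, hA.preimage continuous_subtype_val, hB.preimage continuous_subtype_val, ha, hb, hd.preimage _⟩⟩
  obtain ⟨F, hF⟩ := hc.elim_finite_subcover U hU hcov
  obtain ⟨V, hV, hVc, hVU⟩ := exists_iUnion_eq_closed_subset
    (u := fun i : F => (Subtype.val : Z → X) ⁻¹' U i) (fun i => (hU _).preimage continuous_subtype_val)
    (fun _ => toFinite _)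
    (eq_univ_of_forall fun z => by
      obtain ⟨i, hi, hz⟩ := mem_iUnion₂.1 (hF z.2)
      exact mem_iUnion.2 ⟨⟨i, hi⟩, hz⟩)
  refine ⟨F, fun i => Subtype.val '' V i, fun i => (hVc i).isCompact.image continuous_subtype_val,
    fun i => image_subset_iff.2 fun z hz => ⟨z.2, hVU i hz⟩, fun z hz => ?_⟩
  obtain ⟨i, hi⟩ := mem_iUnion.1 (hV ▸ mem_univ (⟨z, hz⟩ : Z) : (⟨z, hz⟩ : Z) ∈ ⋃ i, V i)
  exact mem_iUnion.2 ⟨i, ⟨z, hz⟩, hi, rfl⟩

theorem exists_shrink_cover (hZ : RelSep Z) (hc : IsCompact Z) {ι : Type*} (U : ι → Set X)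
    (hU : ∀ i, IsOpen (U i)) (hcov : Z ⊆ ⋃ i, U i) (p : ℕ)
    (W : (Fin (p + 1) → ι) → Set X) (hWo : ∀ t, IsOpen (W t))
    (hWZ : ∀ t, W t ∩ Z = (⋂ l, U (t l)) ∩ Z)
    (Q : ι → Set X → Prop) (hQmono : ∀ i A B, A ⊆ B → Q i B → Q i A) (hQe : ∀ i, Q i ∅)
    (hQ : ∀ i K, IsCompact K → K ⊆ Z → K ⊆ U i → ∃ A, IsOpen A ∧ K ⊆ A ∧ Q i A) :
    ∃ V : ι → Set X, (∀ i, IsOpen (V i)) ∧ Z ⊆ ⋃ i, V i ∧ (∀ i, V i ⊆ U i) ∧ (∀ i, Q i (V i)) ∧
      (∀ t, (⋂ l, V (t l)) ⊆ W t) := by
  classical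
  obtain ⟨F, K, hK, hKU, hcovK⟩ := hZ.exists_compact_shrink hc U hU hcov
  choose A hA hKA hAQ using fun i : F => hQ i (K i) (hK i) ((hKU i).trans inter_subset_left)
    ((hKU i).trans inter_subset_right)
  obtain ⟨V, hV, hKV, hVW⟩ := hZ.exists_shrink K hK (fun i => (hKU i).trans inter_subset_left)
    (fun t => W (fun l => (t l : ι))) (fun t => hWo _) (fun t x hx => by
      have hxZ : x ∈ Z := (hKU _ (mem_iInter.1 hx 0)).1
      have : x ∈ (⋂ l, U (t l)) ∩ Z := ⟨mem_iInter.2 fun l => (hKU _ (mem_iInter.1 hx l)).2, hxZ⟩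
      rw [← hWZ] at this; exact this.1)
  refine ⟨fun i => if h : i ∈ F then V ⟨i, h⟩ ∩ A ⟨i, h⟩ ∩ U i else ∅, fun i => ?_, fun z hz => ?_,
    fun i => ?_, fun i => ?_, fun t x hx => ?_⟩
  · beta_reduce; split
    exacts [((hV _).inter (hA _)).inter (hU i), isOpen_empty]
  · obtain ⟨i, hi⟩ := mem_iUnion.1 (hcovK hz)
    exact mem_iUnion.2 ⟨i, by simp only [dif_pos i.2]; exact ⟨⟨hKV i hi, hKA i hi⟩, (hKU i hi).2⟩⟩
  · beta_reduce; split
    exacts [inter_subset_right, empty_subset _]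
  · beta_reduce; split
    exacts [hQmono _ _ _ (inter_subset_left.trans inter_subset_right) (hAQ ⟨i, _⟩), hQe i]
  · rw [mem_iInter] at hx
    have htF : ∀ l, t l ∈ F := fun l => by
      by_contra h; simpa [dif_neg h] using hx l
    refine hVW (fun l => ⟨t l, htF l⟩) (mem_iInter.2 fun l => ?_)
    have := hx l; simp only [dif_pos (htF l)] at this; exact this.1.1

end Groth.SitesTopoi
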