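import Groth.Agent.SitesTopoi.InducingPush
import Mathlib.CategoryTheory.Adjunction.Triple
import Mathlib.CategoryTheory.EssentialImage

/-!
Extension by the empty set of sheaves of sets from an open subspace.
-/

open CategoryTheory CategoryTheory.Limits TopologicalSpace Opposite Topology

namespace Groth.SitesTopoi

universe u
variable {X : TopCat.{u}} (U : Opens X)

/-- The presheaf represented by an open: a point over opens inside `U`, empty otherwise. -/
def belowPresheaf : X.Presheaf (Type u) where
  obj V := ULift.{u} (PLift (V.unop ≤ U))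
  map f := TypeCat.ofHom fun h => ⟨⟨f.unop.le.trans h.down.down⟩⟩
  map_id _ := rfl
  map_comp _ _ := rfl

lemma belowPresheaf_isSheaf : (belowPresheaf U).IsSheaf := by
  rw [TopCat.Presheaf.isSheaf_iff_isSheafUniqueGluing_types]
  intro ι V sf _
  exact ⟨(⟨⟨iSup_le fun i => (sf i).down.down⟩⟩ : ULift.{u} (PLift (iSup V ≤ U))), fun i => Subsingleton.elim (α := ULift.{u} (PLift (V i ≤ U))) _ _,
    fun y _ => Subsingleton.elim (α := ULift.{u} (PLift (iSup V ≤ U))) _ _⟩

variable (L : (TopCat.of U).Sheaf (Type u) ⥤ X.Sheaf (Type u)) (adj : L ⊣ U.sheafRestrict (C := Type u))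

/-- The inclusion of the open subspace. -/
abbrev incl : TopCat.of U ⟶ X := TopCat.ofHom ⟨_, continuous_subtype_val⟩

lemma isOpenEmbedding_incl : IsOpenEmbedding (incl U) := U.isOpenEmbedding

/-- Restriction to an open is left adjoint to the direct image. -/
noncomputable def restrictPushAdj :
    U.sheafRestrict (C := Type u) ⊣ TopCat.Sheaf.pushforward (Type u) (incl U) :=
  (TopCat.Sheaf.pullbackPushforwardAdjunction (Type u) (incl U)).ofNatIsoLeft
    ((isOpenEmbedding_incl U).sheafPullbackIso (Type u))

include adj in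
theorem extensionByEmpty_full_faithful : L.Full ∧ L.Faithful := by
  let t : Adjunction.Triple L (U.sheafRestrict (C := Type u)) (TopCat.Sheaf.pushforward (Type u) (incl U)) :=
    { adj₁ := adj, adj₂ := restrictPushAdj U }
  have h := t.fullyFaithfulEquiv.symm (pushforwardFullyFaithful (isOpenEmbedding_incl U).isInducing)
  exact ⟨h.full, h.faithful⟩

include adj in
theorem extensionByEmpty_stalk_empty (F : (TopCat.of U).Sheaf (Type u)) (x : X) (hx : x ∉ U) :
    IsEmpty ((L.obj F).presheaf.stalk x) := by
  let P : X.Sheaf (Type u) := ⟨belowPresheaf U, belowPresheaf_isSheaf U⟩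
  let φ : F ⟶ (U.sheafRestrict (C := Type u)).obj P :=
    ⟨{ app := fun V => TypeCat.ofHom fun _ => (⟨⟨by rintro y ⟨z, -, rfl⟩; exact z.2⟩⟩ :
          ULift.{u} (PLift ((isOpenEmbedding_incl U).isOpenMap.functor.obj V.unop ≤ U)))
       naturality := fun V W f => by
        ext s
        exact Subsingleton.elim (α := ULift.{u} (PLift _)) _ _ }⟩
  let ψ : L.obj F ⟶ P := (adj.homEquiv _ _).symm φ
  refine ⟨fun t => ?_⟩
  obtain ⟨V, hxV, s, -⟩ := (L.obj F).presheaf.exists_germ_eq t
  have h : ULift.{u} (PLift (V ≤ U)) := ψ.1.app (op V) s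
  exact hx (h.down.down hxV)

include adj in
theorem extensionByEmpty_essImage (G : X.Sheaf (Type u)) :
    L.essImage G ↔ ∀ x : X, x ∉ U → IsEmpty (G.presheaf.stalk x) := by
  constructor
  · rintro ⟨F, ⟨e⟩⟩ x hx
    have := extensionByEmpty_stalk_empty U L adj F x hx
    exact @Function.isEmpty _ _ this
      (((TopCat.Presheaf.stalkFunctor (Type u) x).mapIso ((sheafToPresheaf _ _).mapIso e)).toEquiv.symm)
  · intro h
    let j := isOpenEmbedding_incl U
    have hle : ∀ {V : Opens X}, G.1.obj (op V) → V ≤ U := fun {V} s x hxV => by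
      by_contra hx
      exact (h x hx).false (G.presheaf.germ V x hxV s)
    have himg : ∀ {V : Opens X}, V ≤ U → V ≤ j.isOpenMap.functor.obj ((Opens.map (incl U)).obj V) :=
      fun {V} hV x hx => ⟨⟨x, hV hx⟩, hx, rfl⟩
    have himg' : ∀ V : Opens X, j.isOpenMap.functor.obj ((Opens.map (incl U)).obj V) ≤ V := fun V => by
      rintro _ ⟨z, hz, rfl⟩; exact hz
    let η := adj.unit.app ((U.sheafRestrict (C := Type u)).obj G)
    let H := L.obj ((U.sheafRestrict (C := Type u)).obj G)
    let ε : H ⟶ G := adj.counit.app G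
    have htri : ∀ (W : Opens (TopCat.of U)) (s : G.1.obj (op (j.isOpenMap.functor.obj W))),
        ε.1.app (op (j.isOpenMap.functor.obj W)) (η.1.app (op W) s) = s := fun W s =>
      congrArg (fun m : (U.sheafRestrict (C := Type u)).obj G ⟶ (U.sheafRestrict (C := Type u)).obj G =>
        m.1.app (op W) s) (adj.right_triangle_components G)
    let δ : G ⟶ H := ⟨{
      app := fun V => TypeCat.ofHom fun s =>
        res H.1 (himg (hle s)) (η.1.app (op ((Opens.map (incl U)).obj V.unop)) (res G.1 (himg' V.unop) s))
      naturality := fun V W f => by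
        ext s
        change res H.1 _ (η.1.app _ (res G.1 (himg' W.unop) (res G.1 f.unop.le s))) =
          res H.1 f.unop.le (res H.1 (himg (hle s)) (η.1.app _ (res G.1 (himg' V.unop) s)))
        have e := app_res η.1 (((Opens.map (incl U)).map f.unop).le) (res G.1 (himg' V.unop) s)
        change η.1.app _ (res G.1 (j.isOpenMap.functor.map ((Opens.map (incl U)).map f.unop)).le
          (res G.1 (himg' V.unop) s)) =
            res H.1 (j.isOpenMap.functor.map ((Opens.map (incl U)).map f.unop)).le (η.1.app _ (res G.1 (himg' V.unop) s)) at e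
        rw [res_res] at e
        rw [res_res, e, res_res, res_res] }⟩
    have hδε : δ ≫ ε = 𝟙 G := by
      refine CategoryTheory.Sheaf.hom_ext (NatTrans.ext (funext fun V => ?_))
      ext s
      change ε.1.app V (res H.1 (himg (hle s)) (η.1.app _ (res G.1 (himg' V.unop) s))) = s
      have e := app_res ε.1 (himg (hle s)) (η.1.app (op ((Opens.map (incl U)).obj V.unop)) (res G.1 (himg' V.unop) s))
      refine e.trans ?_
      rw [htri, res_res, res_self]
    refine ⟨(U.sheafRestrict (C := Type u)).obj G, ⟨⟨ε, δ, ?_, hδε⟩⟩⟩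
    refine (adj.homEquiv _ _).injective ?_
    have hr : adj.homEquiv _ _ (𝟙 H) = η :=
      adj.homEquiv_id _
    have hl : adj.homEquiv _ _ (ε ≫ δ) = (U.sheafRestrict (C := Type u)).map δ := by
      rw [adj.homEquiv_naturality_right]
      exact (congrArg (· ≫ _) ((adj.homEquiv_unit _ _ _).trans (adj.right_triangle_components G))).trans (Category.id_comp _)
    rw [hl]
    refine Eq.trans ?_ hr.symm
    refine CategoryTheory.Sheaf.hom_ext (NatTrans.ext (funext fun W => ?_))
    ext s
    let VW := j.isOpenMap.functor.obj W.unop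
    change res H.1 (himg (hle s)) (η.1.app (op ((Opens.map (incl U)).obj VW)) (res G.1 (himg' VW) s)) = η.1.app W s
    have hW : (Opens.map (incl U)).obj VW ≤ W.unop := by
      rintro z ⟨w, hw, e⟩
      rwa [← Subtype.val_injective e]
    have e := app_res η.1 hW s
    change η.1.app _ (res G.1 (j.isOpenMap.functor.map (homOfLE hW)).le s) =
      res H.1 (j.isOpenMap.functor.map (homOfLE hW)).le (η.1.app W s) at e
    rw [e, res_res, res_self]

end Groth.SitesTopoi
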