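import Groth.Agent.SitesTopoi.SheafUtil
import Mathlib.CategoryTheory.Sites.LocallySurjective
import Mathlib.CategoryTheory.Sites.Limits
import Mathlib.CategoryTheory.Limits.Types.Filtered
import Mathlib.CategoryTheory.Filtered.Basic
import Mathlib.Topology.Sheaves.Sheafify

/-!
Sections of directed colimits of sheaves of sets.
-/

open CategoryTheory CategoryTheory.Limits TopologicalSpace Opposite

namespace Groth.SitesTopoi

universe u
variable {X : TopCat.{u}} {J : Type u} [Preorder J] [Nonempty J] [IsDirected J (· ≤ ·)]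
  {F : J ⥤ X.Sheaf (Type u)} (c : Cocone F)

/-- The image in the cocone point of a section at a stage. -/
abbrev img {i : J} {U : Opens X} (a : (F.obj i).1.obj (op U)) : c.pt.1.obj (op U) :=
  (c.ι.app i).1.app (op U) a

omit [Nonempty J] [IsDirected J (· ≤ ·)] in
lemma img_res {i : J} {U V : Opens X} (h : V ≤ U) (a : (F.obj i).1.obj (op U)) :
    img c (res (F.obj i).1 h a) = res c.pt.1 h (img c a) := app_res (c.ι.app i).1 h a

omit [Nonempty J] [IsDirected J (· ≤ ·)] in
lemma img_map {i k : J} (f : i ⟶ k) {U : Opens X} (a : (F.obj i).1.obj (op U)) :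
    img c ((F.map f).1.app (op U) a) = img c a :=
  congrArg (fun m : F.obj i ⟶ c.pt => m.1.app (op U) a) (c.w f)

omit [Nonempty J] [IsDirected J (· ≤ ·)] in
lemma map_map {i k l : J} (f : i ⟶ k) (g : k ⟶ l) (h : i ⟶ l) {U : Opens X} (a : (F.obj i).1.obj (op U)) :
    (F.map g).1.app (op U) ((F.map f).1.app (op U) a) = (F.map h).1.app (op U) a := by
  rw [Subsingleton.elim h (f ≫ g), F.map_comp]
  rfl

omit [IsDirected J (· ≤ ·)] in
lemma exists_local_rep (hc : IsColimit c) {U : Opens X} (s : c.pt.1.obj (op U)) {x : X} (hx : x ∈ U) :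
    ∃ (V : Opens X) (hVU : V ≤ U), x ∈ V ∧ ∃ (i : J) (a : (F.obj i).1.obj (op V)), img c a = res c.pt.1 hVU s := by
  let E := colimit.cocone (F ⋙ sheafToPresheaf _ _)
  let e := (Sheaf.isColimitSheafifyCocone E (colimit.isColimit _)).coconePointUniqueUpToIso hc
  let e' : sheafify (Opens.grothendieckTopology X) E.pt ⟶ c.pt.1 := e.hom.1
  let m : E.pt ⟶ c.pt.1 := toSheafify _ E.pt ≫ e'
  have : IsIso e' := inferInstanceAs (IsIso ((sheafToPresheaf _ _).map e.hom))
  have : Presheaf.IsLocallySurjective (Opens.grothendieckTopology X) e' := inferInstance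
  have : Presheaf.IsLocallySurjective (Opens.grothendieckTopology X) (toSheafify (Opens.grothendieckTopology X) E.pt) := inferInstance
  have : Presheaf.IsLocallySurjective (Opens.grothendieckTopology X) m :=
    Presheaf.isLocallySurjective_comp (Opens.grothendieckTopology X) (toSheafify (Opens.grothendieckTopology X) E.pt) e'
  obtain ⟨V, f, ⟨t, ht⟩, hxV⟩ := Presheaf.imageSieve_mem (Opens.grothendieckTopology X) m s x hx
  obtain ⟨i, a, ha⟩ := Types.jointly_surjective_of_isColimit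
    (isColimitOfPreserves ((evaluation (Opens X)ᵒᵖ (Type u)).obj (op V)) (colimit.isColimit (F ⋙ sheafToPresheaf _ _))) t
  refine ⟨V, f.le, hxV, i, a, ?_⟩
  have h0 : (c.ι.app i).1 = E.ι.app i ≫ m := by
    rw [← (Sheaf.isColimitSheafifyCocone E (colimit.isColimit _)).comp_coconePointUniqueUpToIso_hom hc i]
    rw [ObjectProperty.FullSubcategory.comp_hom, Sheaf.sheafifyCocone_ι_app_val]
    exact Category.assoc _ _ _
  change (c.ι.app i).1.app (op V) a = _
  rw [h0]
  change m.app (op V) ((E.ι.app i).app (op V) a) = _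
  rw [show (E.ι.app i).app (op V) a = t from ha, ht]
  rfl

lemma exists_local_eq (hc : IsColimit c) {U : Opens X} {i j : J} (a : (F.obj i).1.obj (op U))
    (b : (F.obj j).1.obj (op U)) (h : img c a = img c b) {x : X} (hx : x ∈ U) :
    ∃ (V : Opens X) (hVU : V ≤ U), x ∈ V ∧ ∃ (k : J) (f : i ⟶ k) (g : j ⟶ k),
      res (F.obj k).1 hVU ((F.map f).1.app (op U) a) = res (F.obj k).1 hVU ((F.map g).1.app (op U) b) := by
  let E := colimit.cocone (F ⋙ sheafToPresheaf _ _)
  let e := (Sheaf.isColimitSheafifyCocone E (colimit.isColimit _)).coconePointUniqueUpToIso hc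
  let e' : sheafify (Opens.grothendieckTopology X) E.pt ⟶ c.pt.1 := e.hom.1
  let m : E.pt ⟶ c.pt.1 := toSheafify _ E.pt ≫ e'
  have : IsIso e' := inferInstanceAs (IsIso ((sheafToPresheaf _ _).map e.hom))
  have : Presheaf.IsLocallyInjective (Opens.grothendieckTopology X) e' := inferInstance
  have : Presheaf.IsLocallyInjective (Opens.grothendieckTopology X) (toSheafify (Opens.grothendieckTopology X) E.pt) := inferInstance
  have : Presheaf.IsLocallyInjective (Opens.grothendieckTopology X) m :=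
    Presheaf.isLocallyInjective_comp (Opens.grothendieckTopology X) (toSheafify (Opens.grothendieckTopology X) E.pt) e'
  have h0 : ∀ l, (c.ι.app l).1 = E.ι.app l ≫ m := fun l => by
    rw [← (Sheaf.isColimitSheafifyCocone E (colimit.isColimit _)).comp_coconePointUniqueUpToIso_hom hc l]
    rw [ObjectProperty.FullSubcategory.comp_hom, Sheaf.sheafifyCocone_ι_app_val]
    exact Category.assoc _ _ _
  have h' : m.app (op U) ((E.ι.app i).app (op U) a) = m.app (op U) ((E.ι.app j).app (op U) b) := by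
    have ha := congrArg (fun q : (F.obj i).1 ⟶ c.pt.1 => q.app (op U) a) (h0 i)
    have hb := congrArg (fun q : (F.obj j).1 ⟶ c.pt.1 => q.app (op U) b) (h0 j)
    exact ha.symm.trans (h.trans hb)
  obtain ⟨V, f, hf, hxV⟩ := Presheaf.equalizerSieve_mem (Opens.grothendieckTopology X) m _ _ h' x hx
  have key : (E.ι.app i).app (op V) (res (F.obj i).1 f.le a) = (E.ι.app j).app (op V) (res (F.obj j).1 f.le b) :=
    (app_res (E.ι.app i) f.le a).trans (hf.trans (app_res (E.ι.app j) f.le b).symm)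
  obtain ⟨k, p, q, hk⟩ := (Types.FilteredColimit.isColimit_eq_iff _
    (isColimitOfPreserves ((evaluation (Opens X)ᵒᵖ (Type u)).obj (op V)) (colimit.isColimit (F ⋙ sheafToPresheaf _ _)))).1 key
  refine ⟨V, f.le, hxV, k, p, q, ?_⟩
  rw [← app_res, ← app_res]
  exact hk

lemma exists_eq_of_isCompact (hc : IsColimit c) {U : Opens X} (hU : IsCompact (U : Set X)) {i j : J}
    (a : (F.obj i).1.obj (op U)) (b : (F.obj j).1.obj (op U)) (h : img c a = img c b) :
    ∃ (k : J) (f : i ⟶ k) (g : j ⟶ k), (F.map f).1.app (op U) a = (F.map g).1.app (op U) b := by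
  choose V hV hxV k p q e using fun x : {x : X // x ∈ U} => exists_local_eq c hc a b h x.2
  obtain ⟨t, ht⟩ := hU.elim_finite_subcover (fun x => (V x : Set X)) (fun x => (V x).isOpen)
    (fun x hx => Set.mem_iUnion.2 ⟨⟨x, hx⟩, hxV _⟩)
  classical
  obtain ⟨K, hK⟩ := Finset.exists_le (insert i (insert j (t.image k)))
  have hiK : i ≤ K := hK i (by simp)
  have hjK : j ≤ K := hK j (by simp)
  refine ⟨K, homOfLE hiK, homOfLE hjK, sheaf_ext (F.obj K) (fun x : t => V x.1) (fun x => hV x.1)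
    (fun y hy => ?_) fun x => ?_⟩
  · obtain ⟨x, hx, hy⟩ := Set.mem_iUnion₂.1 (ht hy)
    exact Opens.mem_iSup.2 ⟨⟨x, hx⟩, hy⟩
  · have hkK : k x.1 ≤ K := hK _ (by simp; exact Or.inr (Or.inr ⟨_, _, x.2, rfl⟩))
    have e' := congrArg ((F.map (homOfLE hkK)).1.app (op (V x.1))) (e x.1)
    rw [app_res, app_res, map_map _ _ (homOfLE hiK), map_map _ _ (homOfLE hjK)] at e'
    exact e'

lemma exists_eq_of_injective (hc : IsColimit c) {U : Opens X}
    (hinj : ∀ (i j : J) (h : i ⟶ j) (V : Opens X), Function.Injective ((F.map h).1.app (op V)))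
    {i j : J} (a : (F.obj i).1.obj (op U)) (b : (F.obj j).1.obj (op U)) (h : img c a = img c b) {k : J}
    (f : i ⟶ k) (g : j ⟶ k) : (F.map f).1.app (op U) a = (F.map g).1.app (op U) b := by
  choose V hV hxV l p q e using fun x : {x : X // x ∈ U} => exists_local_eq c hc a b h x.2
  refine sheaf_ext (F.obj k) V hV (fun y hy => Opens.mem_iSup.2 ⟨⟨y, hy⟩, hxV _⟩) fun x => ?_
  obtain ⟨M, hlM, hkM⟩ := exists_ge_ge (l x) k
  apply hinj k M (homOfLE hkM)
  have e' := congrArg ((F.map (homOfLE hlM)).1.app (op (V x))) (e x)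
  rw [app_res, app_res, map_map _ _ (f ≫ homOfLE hkM), map_map _ _ (g ≫ homOfLE hkM)] at e'
  rw [app_res, app_res, map_map _ _ (f ≫ homOfLE hkM), map_map _ _ (g ≫ homOfLE hkM)]
  exact e'

lemma exists_rep (hc : IsColimit c) {U : Opens X} (s : c.pt.1.obj (op U)) {n : ℕ} (W : Fin n → Opens X)
    (hW : ∀ a, W a ≤ U) (hcov : U ≤ iSup W)
    (hrep : ∀ a, ∃ (i : J) (t : (F.obj i).1.obj (op (W a))), img c t = res c.pt.1 (hW a) s)
    (heq : ∀ a b {i j : J} (t : (F.obj i).1.obj (op (W a ⊓ W b))) (t' : (F.obj j).1.obj (op (W a ⊓ W b))),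
      img c t = img c t' → ∃ (k : J) (f : i ⟶ k) (g : j ⟶ k),
        (F.map f).1.app (op _) t = (F.map g).1.app (op _) t') :
    ∃ (i : J) (t : (F.obj i).1.obj (op U)), img c t = s := by
  choose i t ht using hrep
  have h2 : ∀ a b, ∃ (k : J) (f : i a ⟶ k) (g : i b ⟶ k),
      (F.map f).1.app (op _) (res (F.obj (i a)).1 (inf_le_left : W a ⊓ W b ≤ W a) (t a)) =
        (F.map g).1.app (op _) (res (F.obj (i b)).1 (inf_le_right : W a ⊓ W b ≤ W b) (t b)) := fun a b =>
    heq a b _ _ (by rw [img_res, img_res, ht, ht, res_res, res_res])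
  choose k f g hk using h2
  classical
  obtain ⟨K, hK⟩ := Finset.exists_le ((Finset.univ.image i) ∪ (Finset.univ.image fun p : Fin n × Fin n => k p.1 p.2))
  have hiK : ∀ a, i a ≤ K := fun a => hK _ (by simp)
  have hkK : ∀ a b, k a b ≤ K := fun a b => hK _ (by simp)
  let T : ∀ a : ULift.{u} (Fin n), (F.obj K).1.obj (op (W a.down)) := fun a =>
    (F.map (homOfLE (hiK a.down))).1.app (op _) (t a.down)
  obtain ⟨r, hr, -⟩ := sheaf_glue (F.obj K) (fun a : ULift.{u} (Fin n) => W a.down) (fun a => hW a.down)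
    (hcov.trans (iSup_le fun a => le_iSup (fun a : ULift.{u} (Fin n) => W a.down) ⟨a⟩)) T fun a b => by
      have e' := congrArg ((F.map (homOfLE (hkK a.down b.down))).1.app (op _)) (hk a.down b.down)
      rw [map_map _ _ (homOfLE (hiK a.down)), map_map _ _ (homOfLE (hiK b.down)), app_res, app_res] at e'
      exact e'
  refine ⟨K, r, sheaf_ext c.pt (fun a : ULift.{u} (Fin n) => W a.down) (fun a => hW a.down)
    (hcov.trans (iSup_le fun a => le_iSup (fun a : ULift.{u} (Fin n) => W a.down) ⟨a⟩)) fun a => ?_⟩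
  rw [← img_res, hr a, img_map, ht]

theorem directed_colimit_sections (hc : IsColimit c) (U : Opens X) :
    let ev := TopCat.Sheaf.forget (Type u) X ⋙ (evaluation (Opens X)ᵒᵖ (Type u)).obj (op U)
    let Ψ : colimit (F ⋙ ev) → ev.obj c.pt := colimit.desc (F ⋙ ev) (ev.mapCocone c)
    ((∀ (i j : J) (h : i ⟶ j) (V : Opens X), Function.Injective ((F.map h).1.app (op V))) → Function.Injective Ψ) ∧
    (IsCompact (U : Set X) → Function.Injective Ψ) ∧
    (IsCompact (U : Set X) → (∀ (i j : J) (h : i ⟶ j) (V : Opens X), Function.Injective ((F.map h).1.app (op V))) →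
      Function.Bijective Ψ) ∧
    ((∀ 𝒱 : Set (Opens X), (⨆ V ∈ 𝒱, V) = U →
        ∃ (m : ℕ) (W : Fin m → Opens X), (∀ j, ∃ V ∈ 𝒱, W j ≤ V) ∧ (⨆ j, W j) = U ∧
          ∀ j j', IsCompact ((W j ⊓ W j' : Opens X) : Set X)) →
      Function.Bijective Ψ) := by
  intro ev Ψ
  have hΨ : ∀ (i : J) (a : (F.obj i).1.obj (op U)), Ψ (colimit.ι (F ⋙ ev) i a) = img c a := fun i a =>
    congrArg (fun m : ev.obj (F.obj i) ⟶ ev.obj c.pt => m a) (colimit.ι_desc (ev.mapCocone c) i)
  have hinj : (∀ (i j : J) (a : (F.obj i).1.obj (op U)) (b : (F.obj j).1.obj (op U)), img c a = img c b →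
      ∃ (k : J) (f : i ⟶ k) (g : j ⟶ k), (F.map f).1.app (op U) a = (F.map g).1.app (op U) b) →
      Function.Injective Ψ := by
    intro H x y hxy
    obtain ⟨i, a, rfl⟩ := Types.jointly_surjective_of_isColimit (colimit.isColimit (F ⋙ ev)) x
    obtain ⟨j, b, rfl⟩ := Types.jointly_surjective_of_isColimit (colimit.isColimit (F ⋙ ev)) y
    have hab : img c a = img c b := (hΨ i a).symm.trans (hxy.trans (hΨ j b))
    obtain ⟨k, f, g, e⟩ := H i j a b hab
    exact (Types.FilteredColimit.colimit_eq_iff _).2 ⟨k, f, g, e⟩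
  have hloc : ∀ s : c.pt.1.obj (op U), ∀ x ∈ U, ∃ (V : Opens X) (hVU : V ≤ U), x ∈ V ∧
      ∃ (i : J) (a : (F.obj i).1.obj (op V)), img c a = res c.pt.1 hVU s := fun s x hx =>
    exists_local_rep c hc s hx
  have hsurj : ∀ s : c.pt.1.obj (op U), (∃ (i : J) (t : (F.obj i).1.obj (op U)), img c t = s) →
      ∃ z, Ψ z = s := fun s ⟨i, t, ht⟩ => ⟨colimit.ι (F ⋙ ev) i t, (hΨ i t).trans ht⟩
  have hinjT : (∀ (i j : J) (h : i ⟶ j) (V : Opens X), Function.Injective ((F.map h).1.app (op V))) →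
      Function.Injective Ψ := fun h => hinj fun i j a b hab => by
    obtain ⟨k, hik, hjk⟩ := exists_ge_ge i j
    exact ⟨k, homOfLE hik, homOfLE hjk, exists_eq_of_injective c hc h a b hab _ _⟩
  refine ⟨hinjT, fun h => hinj fun i j a b hab => exists_eq_of_isCompact c hc h a b hab,
    fun hU h => ⟨hinjT h, fun s => hsurj s ?_⟩, fun h => ?_⟩
  · choose V hV hxV i a ha using fun x : {x : X // x ∈ U} => hloc s x.1 x.2
    obtain ⟨t, ht⟩ := hU.elim_finite_subcover (fun x => (V x : Set X)) (fun x => (V x).isOpen)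
      (fun x hx => Set.mem_iUnion.2 ⟨⟨x, hx⟩, hxV _⟩)
    refine exists_rep c hc s (fun m : Fin t.card => V (t.equivFin.symm m).1) (fun m => hV _) (fun y hy => ?_)
      (fun m => ⟨_, _, ha _⟩) fun m m' p q r r' hrr => ?_
    · obtain ⟨x, hx, hy⟩ := Set.mem_iUnion₂.1 (ht hy)
      exact Opens.mem_iSup.2 ⟨t.equivFin ⟨x, hx⟩, by simpa using hy⟩
    · obtain ⟨k, hk, hk'⟩ := exists_ge_ge p q
      exact ⟨k, homOfLE hk, homOfLE hk', exists_eq_of_injective c hc h r r' hrr _ _⟩
  · have hUc : IsCompact (U : Set X) := by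
      obtain ⟨m, W, -, hWU, hWc⟩ := h {U} (by simp)
      rw [← hWU, Opens.coe_iSup]
      exact isCompact_iUnion fun j => by simpa using hWc j j
    refine ⟨hinj fun i j a b hab => exists_eq_of_isCompact c hc hUc a b hab, fun s => hsurj s ?_⟩
    choose V hV hxV i a ha using fun x : {x : X // x ∈ U} => hloc s x.1 x.2
    obtain ⟨m, W, hW, hWU, hWc⟩ := h (Set.range V) (by
      rw [iSup_range]
      exact le_antisymm (iSup_le hV) fun y hy => Opens.mem_iSup.2 ⟨⟨y, hy⟩, hxV _⟩)
    refine exists_rep c hc s W (fun j => hWU ▸ le_iSup W j) hWU.ge (fun j => ?_)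
      fun j j' p q r r' hrr => exists_eq_of_isCompact c hc (hWc j j') r r' hrr
    obtain ⟨_, ⟨x, rfl⟩, hle⟩ := hW j
    exact ⟨i x, res (F.obj (i x)).1 hle (a x), by rw [img_res, ha, res_res]⟩

end Groth.SitesTopoi
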