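import Groth.Prelude.Def_W4stktopologysheavesDim
import Mathlib.Topology.Spectral.Basic
import Mathlib.Topology.NoetherianSpace

/-!
The soberification of a topological space.
-/

open TopologicalSpace Topology Set

namespace Groth.SitesTopoi

universe u
variable {X : Type u} [TopologicalSpace X]

/-- The underlying irreducible closed set of a point of the soberification. -/
def sobSet (Z : PtTop.Sob X) : Set X := @SetLike.coe (IrreducibleCloseds X) X _ Z

lemma sobSet_isClosed (Z : PtTop.Sob X) : IsClosed (sobSet Z) := IrreducibleCloseds.isClosed (α := X) Z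

lemma sobSet_isIrreducible (Z : PtTop.Sob X) : IsIrreducible (sobSet Z) :=
  IrreducibleCloseds.isIrreducible (α := X) Z

lemma sob_ext {Z W : PtTop.Sob X} (h : sobSet Z = sobSet W) : Z = W := IrreducibleCloseds.ext h

/-- The open of the soberification attached to an open. -/
def sobOpen (U : Set X) : Set (PtTop.Sob X) := {Z | (sobSet Z ∩ U).Nonempty}

lemma isOpen_sobOpen {U : Set X} (hU : IsOpen U) : IsOpen (sobOpen U) :=
  GenerateOpen.basic _ ⟨⟨U, hU⟩, rfl⟩

lemma sobOpen_inter {U V : Set X} (hU : IsOpen U) (hV : IsOpen V) :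
    sobOpen (U ∩ V) = sobOpen U ∩ sobOpen V := by
  ext Z
  exact ⟨fun h => ⟨h.mono (inter_subset_inter_right _ inter_subset_left),
      h.mono (inter_subset_inter_right _ inter_subset_right)⟩,
    fun h => (sobSet_isIrreducible Z).2 U V hU hV h.1 h.2⟩

lemma sobOpen_iUnion {ι : Sort*} (U : ι → Set X) : sobOpen (⋃ i, U i) = ⋃ i, sobOpen (U i) := by
  ext Z
  simp [sobOpen, inter_iUnion]

lemma sobOpen_empty : sobOpen (∅ : Set X) = ∅ := by ext Z; simp [sobOpen]

lemma sobOpen_univ : sobOpen (univ : Set X) = univ := by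
  ext Z; simp [sobOpen, (sobSet_isIrreducible Z).nonempty]

lemma isOpen_sob_iff {O : Set (PtTop.Sob X)} : IsOpen O ↔ ∃ U : Set X, IsOpen U ∧ sobOpen U = O := by
  refine ⟨fun h => ?_, fun ⟨U, hU, e⟩ => e ▸ isOpen_sobOpen hU⟩
  induction h with
  | basic s hs => obtain ⟨U, rfl⟩ := hs; exact ⟨U, U.isOpen, rfl⟩
  | univ => exact ⟨univ, isOpen_univ, sobOpen_univ⟩
  | inter s t _ _ hs ht =>
    obtain ⟨U, hU, rfl⟩ := hs
    obtain ⟨V, hV, rfl⟩ := ht
    exact ⟨U ∩ V, hU.inter hV, sobOpen_inter hU hV⟩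
  | sUnion S _ ih =>
    choose U hU e using ih
    refine ⟨⋃ s : S, U s.1 s.2, isOpen_iUnion fun s => hU _ _, ?_⟩
    rw [sobOpen_iUnion, sUnion_eq_iUnion]
    exact iUnion_congr fun s => e _ _

lemma mem_toSob_iff {U : Set X} (hU : IsOpen U) (x : X) : PtTop.toSob X x ∈ sobOpen U ↔ x ∈ U := by
  refine ⟨fun h => ?_, fun h => ⟨x, subset_closure rfl, h⟩⟩
  obtain ⟨y, hy, hyU⟩ := h
  exact (specializes_iff_mem_closure.2 hy).mem_open hU hyU

lemma preimage_toSob {U : Set X} (hU : IsOpen U) : PtTop.toSob X ⁻¹' sobOpen U = U := by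
  ext x; exact mem_toSob_iff hU x

lemma sobOpen_subset {U V : Set X} (hU : IsOpen U) (hV : IsOpen V) (h : sobOpen U ⊆ sobOpen V) : U ⊆ V := by
  rw [← preimage_toSob hU, ← preimage_toSob hV]; exact preimage_mono h

lemma sobOpen_mono {U V : Set X} (h : U ⊆ V) : sobOpen U ⊆ sobOpen V :=
  fun _ hZ => hZ.mono (inter_subset_inter_right _ h)

lemma continuous_toSob : Continuous (PtTop.toSob X) := by
  rw [continuous_def]
  intro O hO
  obtain ⟨U, hU, rfl⟩ := isOpen_sob_iff.1 hO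
  rwa [preimage_toSob hU]

lemma mem_closure_singleton_sob {W Z : PtTop.Sob X} : W ∈ closure {Z} ↔ sobSet W ⊆ sobSet Z := by
  rw [mem_closure_iff]
  constructor
  · intro h x hx
    by_contra hne
    obtain ⟨_, ⟨y, hy, hy'⟩, rfl⟩ := h (sobOpen (sobSet Z)ᶜ) (isOpen_sobOpen (sobSet_isClosed Z).isOpen_compl)
      ⟨x, hx, hne⟩
    exact hy' hy
  · intro h O hO hW
    obtain ⟨U, hU, rfl⟩ := isOpen_sob_iff.1 hO
    exact ⟨Z, hW.mono (inter_subset_inter_left _ h), rfl⟩

instance sob_t0 : T0Space (PtTop.Sob X) := by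
  refine ⟨fun Z W h => sob_ext (subset_antisymm ?_ ?_)⟩
  · exact mem_closure_singleton_sob.1 (h.symm.specializes.mem_closure)
  · exact mem_closure_singleton_sob.1 (h.specializes.mem_closure)

instance sob_quasiSober : QuasiSober (PtTop.Sob X) := by
  refine ⟨fun {S} hS hSc => ?_⟩
  obtain ⟨U, hU, hUS⟩ := isOpen_sob_iff.1 hSc.isOpen_compl
  have hmem : ∀ Z, Z ∈ S ↔ sobSet Z ⊆ Uᶜ := fun Z => by
    rw [← not_iff_not, ← mem_compl_iff, ← hUS]
    simp [sobOpen, not_subset_iff_exists_mem_notMem, Set.Nonempty]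
  have hirr : IsIrreducible Uᶜ := by
    refine ⟨?_, fun A B hA hB ⟨a, ha, ha'⟩ ⟨b, hb, hb'⟩ => ?_⟩
    · obtain ⟨Z, hZ⟩ := hS.nonempty
      exact (sobSet_isIrreducible Z).nonempty.mono ((hmem Z).1 hZ)
    · have key : ∀ x ∈ Uᶜ, PtTop.toSob X x ∈ S := fun x hx =>
        (hmem _).2 (closure_minimal (singleton_subset_iff.2 hx) hU.isClosed_compl)
      obtain ⟨Z, hZS, ⟨⟨x, hx, hxA⟩, ⟨y, hy, hyB⟩⟩⟩ := hS.2 (sobOpen A) (sobOpen B) (isOpen_sobOpen hA)
        (isOpen_sobOpen hB) ⟨_, key a ha, (mem_toSob_iff hA a).2 ha'⟩ ⟨_, key b hb, (mem_toSob_iff hB b).2 hb'⟩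
      exact ((sobSet_isIrreducible Z).2 A B hA hB ⟨x, hx, hxA⟩ ⟨y, hy, hyB⟩).mono
        (inter_subset_inter_left _ ((hmem Z).1 hZS))
  refine ⟨(⟨Uᶜ, hirr, hU.isClosed_compl⟩ : IrreducibleCloseds X), ?_⟩
  ext Z
  rw [mem_closure_singleton_sob, hmem]
  rfl

lemma isCompact_sobOpen_iff {U : Set X} (hU : IsOpen U) : IsCompact (sobOpen U) ↔ IsCompact U := by
  constructor <;> intro h <;> rw [isCompact_iff_finite_subcover] <;> intro ι W hW hcov
  · obtain ⟨t, ht⟩ := h.elim_finite_subcover (fun i => sobOpen (W i)) (fun i => isOpen_sobOpen (hW i))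
      (by rw [← sobOpen_iUnion]; exact sobOpen_mono hcov)
    refine ⟨t, sobOpen_subset hU (isOpen_biUnion fun i _ => hW i) (ht.trans ?_)⟩
    exact iUnion₂_subset fun i hi => sobOpen_mono (subset_biUnion_of_mem (u := W) hi)
  · choose V hV e using fun i => isOpen_sob_iff.1 (hW i)
    obtain ⟨t, ht⟩ := h.elim_finite_subcover V hV
      (sobOpen_subset hU (isOpen_iUnion hV) (by simpa [sobOpen_iUnion, e] using hcov))
    refine ⟨t, (sobOpen_mono ht).trans ?_⟩
    simp [sobOpen_iUnion, e]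

lemma compactSpace_sob [CompactSpace X] : CompactSpace (PtTop.Sob X) :=
  ⟨sobOpen_univ (X := X) ▸ (isCompact_sobOpen_iff isOpen_univ).2 isCompact_univ⟩

lemma noetherianSpace_sob [NoetherianSpace X] : NoetherianSpace (PtTop.Sob X) := by
  rw [noetherianSpace_iff_opens]
  intro O
  obtain ⟨U, hU, e⟩ := isOpen_sob_iff.1 O.isOpen
  rw [← e]
  exact (isCompact_sobOpen_iff hU).2 (NoetherianSpace.isCompact U)

lemma spectralSpace_sob [CompactSpace X] [PrespectralSpace X] [QuasiSeparatedSpace X] :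
    SpectralSpace (PtTop.Sob X) := by
  have := compactSpace_sob (X := X)
  have : PrespectralSpace (PtTop.Sob X) := ⟨isTopologicalBasis_of_isOpen_of_nhds (fun _ h => h.1) (by
    intro Z O hZ hO
    obtain ⟨U, hU, rfl⟩ := isOpen_sob_iff.1 hO
    obtain ⟨x, hx, hxU⟩ := hZ
    obtain ⟨V, ⟨hVo, hVc⟩, hxV, hVU⟩ := PrespectralSpace.isTopologicalBasis.exists_subset_of_mem_open hxU hU
    exact ⟨sobOpen V, ⟨isOpen_sobOpen hVo, (isCompact_sobOpen_iff hVo).2 hVc⟩, ⟨x, hx, hxV⟩, sobOpen_mono hVU⟩)⟩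
  have : QuasiSeparatedSpace (PtTop.Sob X) := ⟨fun A B hA hAc hB hBc => by
    obtain ⟨U, hU, rfl⟩ := isOpen_sob_iff.1 hA
    obtain ⟨V, hV, rfl⟩ := isOpen_sob_iff.1 hB
    rw [← sobOpen_inter hU hV, isCompact_sobOpen_iff (hU.inter hV)]
    exact QuasiSeparatedSpace.inter_isCompact U V hU ((isCompact_sobOpen_iff hU).1 hAc) hV
      ((isCompact_sobOpen_iff hV).1 hBc)⟩
  exact { }

theorem exists_factor_toSob {Y : Type u} [TopologicalSpace Y] [QuasiSober Y] [T0Space Y] {f : X → Y}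
    (hf : Continuous f) : ∃ g : PtTop.Sob X → Y, Continuous g ∧ g ∘ PtTop.toSob X = f := by
  choose g hg using fun Z : PtTop.Sob X =>
    QuasiSober.sober ((sobSet_isIrreducible Z).image f hf.continuousOn).closure isClosed_closure
  refine ⟨g, ?_, funext fun x => ?_⟩
  · rw [continuous_def]
    intro O hO
    have : g ⁻¹' O = sobOpen (f ⁻¹' O) := by
      ext Z
      rw [mem_preimage, (hg Z).mem_open_set_iff hO, closure_inter_open_nonempty_iff hO]
      simp [sobOpen, Set.Nonempty, and_comm]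
    rw [this]
    exact isOpen_sobOpen (hO.preimage hf)
  · refine ((hg (PtTop.toSob X x)).eq ?_)
    change closure {f x} = closure (f '' closure {x})
    rw [closure_image_closure hf, image_singleton]

end Groth.SitesTopoi
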