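import Groth.Prelude.Def_ModSite
import Mathlib.Algebra.Category.ModuleCat.Sheaf.Quasicoherent
import Mathlib.Algebra.Category.ModuleCat.Presheaf.Colimits
import Mathlib.Algebra.Category.ModuleCat.Presheaf.Limits
import Mathlib.Algebra.Category.ModuleCat.ChangeOfRings
import Mathlib.Algebra.Category.ModuleCat.Descent
import Mathlib.Algebra.Homology.ShortComplex.ModuleCat
import Mathlib.CategoryTheory.Sites.Over

/-!
# Quasi-coherent modules for the chaotic topology
-/

universe u

open CategoryTheory Limits Opposite

namespace Groth.SitesTopoi.Chaotic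

/-- A natural transformation is invertible at a colimit if it is so on the diagram. -/
lemma isIso_app_of_isColimit {A B : Type*} [Category A] [Category B] {K : Type*} [Category K]
    {F G : A ⥤ B} (θ : F ⟶ G) {D : K ⥤ A} {c : Cocone D} (hc : IsColimit c)
    [PreservesColimit D F] [PreservesColimit D G] (h : ∀ j, IsIso (θ.app (D.obj j))) :
    IsIso (θ.app c.pt) := by
  have : IsIso (Functor.whiskerLeft D θ) :=
    @NatIso.isIso_of_isIso_app _ _ _ _ _ _ _ (fun j => h j)
  let e := IsColimit.coconePointsIsoOfNatIso (isColimitOfPreserves F hc) (isColimitOfPreserves G hc)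
    (asIso (Functor.whiskerLeft D θ))
  have he : θ.app c.pt = e.hom := by
    refine (isColimitOfPreserves F hc).hom_ext fun j => ?_
    refine (θ.naturality (c.ι.app j)).trans ?_
    exact (IsColimit.comp_coconePointsIsoOfNatIso_hom _ (isColimitOfPreserves G hc)
      (asIso (Functor.whiskerLeft D θ)) j).symm
  rw [he]
  infer_instance

/-- A natural transformation is invertible at a limit if it is so on the diagram. -/
lemma isIso_app_of_isLimit {A B : Type*} [Category A] [Category B] {K : Type*} [Category K]
    {F G : A ⥤ B} (θ : F ⟶ G) {D : K ⥤ A} {c : Cone D} (hc : IsLimit c)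
    [PreservesLimit D F] [PreservesLimit D G] (h : ∀ j, IsIso (θ.app (D.obj j))) :
    IsIso (θ.app c.pt) := by
  have : IsIso (Functor.whiskerLeft D θ) :=
    @NatIso.isIso_of_isIso_app _ _ _ _ _ _ _ (fun j => h j)
  let e := IsLimit.conePointsIsoOfNatIso (isLimitOfPreserves F hc) (isLimitOfPreserves G hc)
    (asIso (Functor.whiskerLeft D θ))
  have he : θ.app c.pt = e.hom := by
    refine (isLimitOfPreserves G hc).hom_ext fun j => ?_
    refine (θ.naturality (c.π.app j)).symm.trans ?_
    exact (IsLimit.conePointsIsoOfNatIso_hom_comp (isLimitOfPreserves F hc) (isLimitOfPreserves G hc)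
      (asIso (Functor.whiskerLeft D θ)) j).symm
  rw [he]
  infer_instance

variable {C : Type u} [SmallCategory C] {J : GrothendieckTopology C}

/-- Only maximal sieves are covering. -/
def IsChaotic (J : GrothendieckTopology C) : Prop := ∀ (U : C) (S : Sieve U), S ∈ J U → S = ⊤

lemma isChaotic_bot : IsChaotic (⊥ : GrothendieckTopology C) := fun _ _ h =>
  GrothendieckTopology.bot_covering.1 h

lemma IsChaotic.eq_bot (hJ : IsChaotic J) : J = ⊥ :=
  le_antisymm (fun U S hS => GrothendieckTopology.bot_covering.2 (hJ U S hS)) bot_le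

lemma IsChaotic.over (hJ : IsChaotic J) (X : C) : IsChaotic (J.over X) := fun W S hS => by
  have h := hJ _ _ ((GrothendieckTopology.mem_over_iff J S).1 hS)
  exact (Sieve.overEquiv W).injective (h.trans (map_top _).symm)

variable (O : Sheaf J CommRingCat.{u})

/-- Sections over `U`. -/
noncomputable def evU (U : C) : ModSite.Mod O ⥤ ModuleCat.{u} (O.obj.obj (op U)) :=
  SheafOfModules.forget (ModSite.ringSh O) ⋙ PresheafOfModules.evaluation (ModSite.ringSh O).obj (op U)

noncomputable instance (U : C) : (evU O U).Additive :=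
  inferInstanceAs (SheafOfModules.forget (ModSite.ringSh O) ⋙
    PresheafOfModules.evaluation (ModSite.ringSh O).obj (op U)).Additive

variable {O}

lemma isEquivalence_forget (hJ : IsChaotic J) :
    (SheafOfModules.forget.{u} (ModSite.ringSh O)).IsEquivalence := by
  have : (SheafOfModules.forget.{u} (ModSite.ringSh O)).EssSurj :=
    ⟨fun M => ⟨⟨M, Presheaf.IsSheaf.of_le hJ.eq_bot.le (Presheaf.isSheaf_bot _)⟩, ⟨Iso.refl _⟩⟩⟩
  exact {}

lemma preservesColimitsOfSize_evU (hJ : IsChaotic J) (U : C) :
    PreservesColimitsOfSize.{u, u} (evU O U) := by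
  have := isEquivalence_forget (O := O) hJ
  have : PreservesColimitsOfSize.{u, u}
      (PresheafOfModules.evaluation.{u} (ModSite.ringSh O).obj (op U) :
        PresheafOfModules.{u} (ModSite.ringSh O).obj ⥤ ModuleCat.{u} ((ModSite.ringSh O).obj.obj (op U))) :=
    ⟨fun {K} _ => ⟨fun {D} => inferInstance⟩⟩
  have h := comp_preservesColimits (SheafOfModules.forget.{u} (ModSite.ringSh O))
    (PresheafOfModules.evaluation.{u} (ModSite.ringSh O).obj (op U))
  exact h

lemma preservesLimitsOfSize_evU (hJ : IsChaotic J) (U : C) :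
    PreservesLimitsOfSize.{u, u} (evU O U) := by
  have := isEquivalence_forget (O := O) hJ
  have : PreservesLimitsOfSize.{u, u}
      (PresheafOfModules.evaluation.{u} (ModSite.ringSh O).obj (op U) :
        PresheafOfModules.{u} (ModSite.ringSh O).obj ⥤ ModuleCat.{u} ((ModSite.ringSh O).obj.obj (op U))) :=
    ⟨fun {K} _ => ⟨fun {D} => inferInstance⟩⟩
  have h := comp_preservesLimits (SheafOfModules.forget.{u} (ModSite.ringSh O))
    (PresheafOfModules.evaluation.{u} (ModSite.ringSh O).obj (op U))
  exact h

variable (O)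

/-- The base change map `F(V) ⊗ O(U) → F(U)`. -/
noncomputable def θ {U V : C} (g : U ⟶ V) :
    evU O V ⋙ ModuleCat.extendScalars (O.obj.map g.op).hom ⟶ evU O U where
  app F := ((ModuleCat.extendRestrictScalarsAdj (O.obj.map g.op).hom).homEquiv
    ((evU O V).obj F) ((evU O U).obj F)).symm (F.val.map g.op)
  naturality F G a := by
    refine ((ModuleCat.extendRestrictScalarsAdj _).homEquiv_naturality_left_symm _ _).symm.trans
      (Eq.trans ?_ ((ModuleCat.extendRestrictScalarsAdj _).homEquiv_naturality_right_symm _ _))
    refine congrArg _ ?_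
    exact (PresheafOfModules.Hom.naturality a.val g.op).symm

variable {O}

/-- All base change maps of `F` are isomorphisms. -/
def IsBC (F : ModSite.Mod O) : Prop := ∀ ⦃U V : C⦄ (g : U ⟶ V), IsIso ((θ O g).app F)

lemma IsBC.of_iso {F G : ModSite.Mod O} (e : F ≅ G) (h : IsBC F) : IsBC G := fun U V g =>
  have := h g
  (NatTrans.isIso_app_iff_of_iso (θ O g) e).1 this

lemma isBC_of_isColimit (hJ : IsChaotic J) {K : Type u} [SmallCategory K] {D : K ⥤ ModSite.Mod O}
    {c : Cocone D} (hc : IsColimit c) (h : ∀ j, IsBC (D.obj j)) : IsBC c.pt := fun U V g => by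
  have := preservesColimitsOfSize_evU (O := O) hJ U
  have := preservesColimitsOfSize_evU (O := O) hJ V
  have := (ModuleCat.extendRestrictScalarsAdj.{u, u, u} (O.obj.map g.op).hom).leftAdjoint_preservesColimits.{u, u}
  exact isIso_app_of_isColimit (θ O g) hc (fun j => h j g)

lemma isBC_cokernel (hJ : IsChaotic J) {F G : ModSite.Mod O} (a : F ⟶ G) (hF : IsBC F) (hG : IsBC G) :
    IsBC (cokernel a) := fun U V g => by
  have := preservesColimitsOfSize_evU (O := O) hJ U
  have := preservesColimitsOfSize_evU (O := O) hJ V
  have : PreservesColimitsOfSize.{0, 0} (evU O U) := preservesColimitsOfSize_shrink _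
  have : PreservesColimitsOfSize.{0, 0} (evU O V) := preservesColimitsOfSize_shrink _
  have := (ModuleCat.extendRestrictScalarsAdj.{u, u, u} (O.obj.map g.op).hom).leftAdjoint_preservesColimits.{0, 0}
  refine isIso_app_of_isColimit (θ O g) (colimit.isColimit (parallelPair a 0)) fun j => ?_
  rcases j with _ | _
  · exact hF g
  · exact hG g

lemma isBC_kernel (hJ : IsChaotic J) (hO : ∀ (U V : C) (g : U ⟶ V), (O.obj.map g.op).hom.Flat)
    {F G : ModSite.Mod O} (a : F ⟶ G) (hF : IsBC F) (hG : IsBC G) : IsBC (kernel a) := fun U V g => by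
  have := preservesLimitsOfSize_evU (O := O) hJ U
  have := preservesLimitsOfSize_evU (O := O) hJ V
  have : PreservesLimitsOfSize.{0, 0} (evU O U) := preservesLimitsOfSize_shrink _
  have : PreservesLimitsOfSize.{0, 0} (evU O V) := preservesLimitsOfSize_shrink _
  have := ModuleCat.preservesFiniteLimits_extendScalars_of_flat.{u} (hO U V g)
  refine isIso_app_of_isLimit (θ O g) (limit.isLimit (parallelPair a 0)) fun j => ?_
  rcases j with _ | _
  · exact hF g
  · exact hG g

lemma isBC_extension (hJ : IsChaotic J) (hO : ∀ (U V : C) (g : U ⟶ V), (O.obj.map g.op).hom.Flat)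
    {S : ShortComplex (ModSite.Mod O)} (hS : S.ShortExact) (h₁ : IsBC S.X₁) (h₃ : IsBC S.X₃) :
    IsBC S.X₂ := fun U V g => by
  have := preservesLimitsOfSize_evU (O := O) hJ U
  have := preservesLimitsOfSize_evU (O := O) hJ V
  have := preservesColimitsOfSize_evU (O := O) hJ U
  have := preservesColimitsOfSize_evU (O := O) hJ V
  have : PreservesLimitsOfSize.{0, 0} (evU O U) := preservesLimitsOfSize_shrink _
  have : PreservesLimitsOfSize.{0, 0} (evU O V) := preservesLimitsOfSize_shrink _
  have : PreservesColimitsOfSize.{0, 0} (evU O U) := preservesColimitsOfSize_shrink _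
  have : PreservesColimitsOfSize.{0, 0} (evU O V) := preservesColimitsOfSize_shrink _
  have := ModuleCat.preservesFiniteLimits_extendScalars_of_flat.{u} (hO U V g)
  have := (ModuleCat.extendRestrictScalarsAdj.{u, u, u} (O.obj.map g.op).hom).leftAdjoint_preservesColimits.{0, 0}
  have hV := (hS.map_of_exact (evU O V)).map_of_exact (ModuleCat.extendScalars (O.obj.map g.op).hom)
  have hU := hS.map_of_exact (evU O U)
  let φ : (S.map (evU O V)).map (ModuleCat.extendScalars (O.obj.map g.op).hom) ⟶ S.map (evU O U) :=
    { τ₁ := (θ O g).app S.X₁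
      τ₂ := (θ O g).app S.X₂
      τ₃ := (θ O g).app S.X₃
      comm₁₂ := ((θ O g).naturality S.f).symm
      comm₂₃ := ((θ O g).naturality S.g).symm }
  have : IsIso φ.τ₁ := h₁ g
  have : IsIso φ.τ₃ := h₃ g
  exact ShortComplex.isIso₂_of_shortExact_of_isIso₁₃ φ hV hU

/-- The linear map `R → E` with given value at one. -/
noncomputable def spanHom {R : Type u} [CommRing R] (E : ModuleCat.{u} R) (e : E) :
    ModuleCat.of R R ⟶ E :=
  ModuleCat.ofHom (LinearMap.toSpanSingleton R E e)

lemma spanHom_one {R : Type u} [CommRing R] (E : ModuleCat.{u} R) (e : E) :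
    spanHom E e (1 : R) = e :=
  LinearMap.toSpanSingleton_apply_one _ _ _

lemma isBC_unit : IsBC (SheafOfModules.unit (ModSite.ringSh O)) := fun U V g => by
  let ρ := (O.obj.map g.op).hom
  let adj := ModuleCat.extendRestrictScalarsAdj.{u, u, u} ρ
  let M : ModuleCat.{u} (O.obj.obj (op V)) := ModuleCat.of _ (O.obj.obj (op V))
  let N : ModuleCat.{u} (O.obj.obj (op U)) := ModuleCat.of _ (O.obj.obj (op U))
  let a : M ⟶ (ModuleCat.restrictScalars ρ).obj N :=
    (SheafOfModules.unit (ModSite.ringSh O)).val.map g.op
  change IsIso ((adj.homEquiv M N).symm a)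
  let one : (ModuleCat.extendScalars ρ).obj M := (adj.unit.app M) (1 : O.obj.obj (op V))
  let ψ : N ⟶ (ModuleCat.extendScalars ρ).obj M :=
    spanHom _ one
  have h1 : ((adj.homEquiv M N).symm a) one = (1 : O.obj.obj (op U)) := by
    refine (congrArg (fun z => z (1 : O.obj.obj (op V)))
      ((adj.homEquiv_unit M N ((adj.homEquiv M N).symm a)).symm.trans
        ((adj.homEquiv M N).apply_symm_apply a))).trans ?_
    exact map_one ρ
  refine ⟨ψ, ?_, ?_⟩
  · apply (adj.homEquiv _ _).injective
    refine ModuleCat.hom_ext (LinearMap.ext_ring ?_)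
    rw [Adjunction.homEquiv_unit, Adjunction.homEquiv_unit]
    show ψ ((adj.homEquiv M N).symm a one) = one
    rw [h1]
    exact spanHom_one _ _
  · refine ModuleCat.hom_ext (LinearMap.ext_ring ?_)
    show (adj.homEquiv M N).symm a (ψ (1 : O.obj.obj (op U))) = (1 : O.obj.obj (op U))
    refine (congrArg _ ?_).trans h1
    exact spanHom_one _ _

lemma isBC_free (hJ : IsChaotic J) (I : Type u) :
    IsBC (SheafOfModules.free.{u} (R := ModSite.ringSh O) I) :=
  isBC_of_isColimit hJ
    (colimit.isColimit (Discrete.functor fun _ : I => SheafOfModules.unit (ModSite.ringSh O)))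
    fun _ => isBC_unit

lemma isBC_of_presentation (hJ : IsChaotic J) {F : ModSite.Mod O}
    (P : SheafOfModules.Presentation (R := ModSite.ringSh O) F) : IsBC F :=
  (isBC_cokernel hJ _ (isBC_free hJ _) (isBC_free hJ _)).of_iso
    ((colimit.isColimit _).coconePointUniqueUpToIso P.isColimit)

/-- The section with given value over a terminal object. -/
noncomputable def secOf {T : C} (hT : IsTerminal T) (F : ModSite.Mod O) (m : (evU O T).obj F) :
    SheafOfModules.sections F :=
  PresheafOfModules.sectionsMk (fun X => F.val.map (hT.from X.unop).op m) (fun X Y f => by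
    refine (PresheafOfModules.map_comp_apply F.val _ f m).symm.trans ?_
    refine congrArg (fun k : op T ⟶ Y => F.val.map k m) ?_
    exact Quiver.Hom.unop_inj (hT.hom_ext _ _))

lemma secOf_val {T : C} (hT : IsTerminal T) (F : ModSite.Mod O) (m : (evU O T).obj F) :
    (secOf hT F m).1 (op T) = m := by
  show F.val.map (hT.from T).op m = m
  rw [hT.hom_ext (hT.from T) (𝟙 T), op_id, PresheafOfModules.map_id]
  rfl

/-- The map from the free module on all sections. -/
noncomputable def allSec (F : ModSite.Mod O) :
    SheafOfModules.free.{u} (R := ModSite.ringSh O) (SheafOfModules.sections F) ⟶ F :=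
  (SheafOfModules.freeHomEquiv F).symm id

lemma allSec_surjective {T : C} (hT : IsTerminal T) (F : ModSite.Mod O) :
    Function.Surjective ((evU O T).map (allSec F)) := fun m =>
  ⟨(SheafOfModules.freeSection (R := ModSite.ringSh O) (secOf hT F m)).1 (op T),
    ((congrArg (fun s : SheafOfModules.sections F => s.1 (op T))
      (SheafOfModules.sectionsMap_freeHomEquiv_symm_freeSection id (secOf hT F m))).trans
      (secOf_val hT F m))⟩

/-- With a terminal object, a module all of whose base change maps are invertible has a presentation. -/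
lemma nonempty_presentation (hJ : IsChaotic J) {T : C} (hT : IsTerminal T) {F : ModSite.Mod O}
    (hF : IsBC F) : Nonempty (SheafOfModules.Presentation (R := ModSite.ringSh O) F) := by
  have := preservesLimitsOfSize_evU (O := O) hJ T
  have := preservesColimitsOfSize_evU (O := O) hJ T
  have : PreservesLimitsOfSize.{0, 0} (evU O T) := preservesLimitsOfSize_shrink _
  have : PreservesColimitsOfSize.{0, 0} (evU O T) := preservesColimitsOfSize_shrink _
  let π := allSec F
  let f := allSec (kernel π) ≫ kernel.ι π
  have hf : f ≫ π = 0 := by simp [f]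
  let q := cokernel.desc f π hf
  have hQ : IsBC (cokernel f) := isBC_cokernel hJ f (isBC_free hJ _) (isBC_free hJ _)
  have hq : IsIso ((evU O T).map q) := by
    rw [ConcreteCategory.isIso_iff_bijective]
    have hπq : (evU O T).map (cokernel.π f) ≫ (evU O T).map q = (evU O T).map π := by
      rw [← Functor.map_comp, cokernel.π_desc]
    have hπ' : Function.Surjective ((evU O T).map (cokernel.π f)) :=
      (ModuleCat.epi_iff_surjective _).1 inferInstance
    have hker := (ShortComplex.exact_of_f_is_kernel
      (ShortComplex.mk (kernel.ι π) π (kernel.condition π)) (kernelIsKernel π)).map (evU O T)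
    rw [ShortComplex.moduleCat_exact_iff] at hker
    constructor
    · rw [injective_iff_map_eq_zero]
      intro x hx
      obtain ⟨y, rfl⟩ := hπ' x
      obtain ⟨z, rfl⟩ := hker y ((congrArg (fun k => k y) hπq).symm.trans hx)
      obtain ⟨w, rfl⟩ := allSec_surjective hT (kernel π) z
      have : (evU O T).map f ≫ (evU O T).map (cokernel.π f) = 0 := by
        rw [← Functor.map_comp, cokernel.condition, Functor.map_zero]
      refine Eq.trans ?_ (congrArg (fun k => k w) this)
      exact congrArg (fun k => (evU O T).map (cokernel.π f) (k w))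
        ((evU O T).map_comp (allSec (kernel π)) (kernel.ι π)).symm
    · intro y
      obtain ⟨x, rfl⟩ := allSec_surjective hT F y
      exact ⟨_, congrArg (fun k => k x) hπq⟩
  have : IsIso q := by
    have := isEquivalence_forget (O := O) hJ
    suffices IsIso ((SheafOfModules.forget (ModSite.ringSh O)).map q) from
      isIso_of_reflects_iso q (SheafOfModules.forget (ModSite.ringSh O))
    suffices IsIso ((PresheafOfModules.toPresheaf _).map
        ((SheafOfModules.forget (ModSite.ringSh O)).map q)) from
      isIso_of_reflects_iso _ (PresheafOfModules.toPresheaf _)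
    refine @NatIso.isIso_of_isIso_app _ _ _ _ _ _ _ fun X => ?_
    have hX : IsIso ((evU O X.unop).map q) := by
      have h1 := hQ (hT.from X.unop)
      have h2 := hF (hT.from X.unop)
      have : IsIso ((θ O (hT.from X.unop)).app (cokernel f) ≫ (evU O X.unop).map q) := by
        rw [← (θ O (hT.from X.unop)).naturality q]
        show IsIso ((ModuleCat.extendScalars _).map ((evU O T).map q) ≫ _)
        exact @IsIso.comp_isIso _ _ _ _ _ _ _ inferInstance h2
      exact IsIso.of_isIso_comp_left ((θ O (hT.from X.unop)).app (cokernel f)) _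
    exact Functor.map_isIso (forget₂ (ModuleCat _) AddCommGrpCat) ((evU O X.unop).map q)
  exact ⟨SheafOfModules.presentationOfIsCokernelFree f π hf
    (IsColimit.ofIsoColimit (colimit.isColimit (parallelPair f 0))
      (Cocone.ext (asIso q) (by
        rintro (_ | _)
        · simp [f, q]
        · simp [q])))⟩

lemma isBC_over (F : ModSite.Mod O) (X : C) {U V : C} (g : U ⟶ V) (t : V ⟶ X)
    (h : IsBC ((ModSite.restr O X).obj F)) : IsIso ((θ O g).app F) :=
  h (Over.homMk g rfl : Over.mk (g ≫ t) ⟶ Over.mk t)

lemma isBC_restr (F : ModSite.Mod O) (X : C) (h : IsBC F) : IsBC ((ModSite.restr O X).obj F) :=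
  fun _ _ g => h g.left

/-- Quasi-coherence for the chaotic topology. -/
theorem isQuasicoherent_iff (hJ : IsChaotic J) (F : ModSite.Mod O) :
    SheafOfModules.IsQuasicoherent (R := ModSite.ringSh O) F ↔ IsBC F := by
  constructor
  · rintro ⟨⟨q⟩⟩ U V g
    have h : Sieve.ofObjects q.X V = ⊤ := hJ V _ (q.coversTop V)
    have h' : (Sieve.ofObjects q.X V).arrows (𝟙 V) := by rw [h]; trivial
    obtain ⟨i, ⟨t⟩⟩ := (Sieve.mem_ofObjects_iff ..).mp h'
    exact isBC_over F (q.X i) g t (isBC_of_presentation (hJ.over _) (q.presentation i))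
  · intro h
    exact SheafOfModules.QuasicoherentData.isQuasicoherent (R := ModSite.ringSh O) (M := F)
      { I := C
        X := id
        coversTop := fun Y => J.superset_covering
          (fun Z g _ => (Sieve.mem_ofObjects_iff ..).2 ⟨Z, ⟨𝟙 Z⟩⟩) (J.top_mem Y)
        presentation := fun X => (nonempty_presentation (O := O.over X) (hJ.over X)
          Over.mkIdTerminal (isBC_restr F X h)).some :
        SheafOfModules.QuasicoherentData.{u} (R := ModSite.ringSh O) F }

end Groth.SitesTopoi.Chaotic
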